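import Groth.Agent.Lib.HTor22.Sequence
import Groth.Agent.Lib.DCxKFlat.Balance
import Groth.Agent.Lib.FlatFP.TorShift

/-!
# Degenerate Künneth
-/

set_option autoImplicit false
universe u

open CategoryTheory CategoryTheory.Limits MonoidalCategory HomologicalComplex TensorProduct

attribute [local instance] HasDerivedCategory.standard

namespace GrothLib.HTor22

variable {A : Type u} [CommRing A] {L M : DRing.Cx A}

theorem subsingleton_torSum_of_flat (hH : ∀ i : ℤ, Module.Flat A (L.homology i)) (n : ℤ) (p : ℕ) :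
    Subsingleton (HTor.TorSum L M n (p + 1)) := by
  have h : ∀ ij : {ij : ℤ × ℤ // ij.1 + ij.2 - ((p + 1 : ℕ) : ℤ) = n},
      Subsingleton (DRing.Tor A (p + 1) (L.homology ij.1.1) (M.homology ij.1.2)) := fun ij => by
    haveI := hH ij.1.1
    exact (GrothLib.DR.subsingleton_iff_isZero _).2
      (GrothLib.FlatFP.isZero_tor_succ_of_flat (ModuleCat.of A (L.homology ij.1.1)) (ModuleCat.of A (M.homology ij.1.2)) p)
  exact ⟨fun x y => DFinsupp.ext fun ij => @Subsingleton.elim _ (h ij) _ _⟩

theorem kunneth_bijective_of_flat (hL : DRing.TermwiseFlat L) (bL : ∃ b, DRing.VanishesAbove L b)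
    (bM : ∃ b, DRing.VanishesAbove M b) (hH : ∀ i : ℤ, Module.Flat A (L.homology i)) (n : ℤ) :
    Function.Bijective (kunneth L M n) := by
  have hsurj : ∀ (K : DRing.Cx A), (∃ b, DRing.VanishesAbove K b) → Function.Surjective (kunneth L K n) :=
    fun K hK => eq_range_of_subsingleton_torSum K hL bL hK n fun p => subsingleton_torSum_of_flat hH n p
  refine ⟨(injective_iff_map_eq_zero _).2 fun x hx => ?_, hsurj M bM⟩
  obtain ⟨b, hb⟩ := bM
  let lπ := DirectSum.lmap fun ij : HTor.Antidiag n =>
    LinearMap.lTensor (L.homology ij.1.1) (homologyMap (coverMap M) ij.1.2).hom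
  let lι := DirectSum.lmap fun ij : HTor.Antidiag n =>
    LinearMap.lTensor (L.homology ij.1.1) (homologyMap (syzι M 0) ij.1.2).hom
  obtain ⟨y, rfl⟩ : ∃ y, lπ y = x := (DirectSum.lmap_surjective _).2
    (fun ij => LinearMap.lTensor_surjective _ (surjective_homologyMap_coverMap M ij.1.2)) x
  have h1 : homologyMap (tmap L (coverMap M)) n (kunneth L (cover M) n y) = 0 :=
    (homologyMap_kunneth n (coverMap M) y).trans hx
  obtain ⟨w, hw⟩ := (ShortComplex.moduleCat_exact_iff _).1
    ((tensorCx_shortExact_flat L hL (syzSC_shortExact M 0)).homology_exact₂ n) _ h1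
  obtain ⟨v, rfl⟩ := hsurj (syz M 1) ⟨b, vanishesAbove_syz M hb 1⟩ w
  obtain rfl : lι v = y := (kunneth_bijective_cover M L hL bL n).1
    ((homologyMap_kunneth n (syzι M 0) v).symm.trans hw)
  refine DFinsupp.ext fun ij => ?_
  change lπ (lι v) ij = 0
  rw [DirectSum.lmap_apply]
  change LinearMap.lTensor _ _ (lι v ij) = 0
  erw [DirectSum.lmap_apply]
  rw [← LinearMap.lTensor_comp_apply]
  have h : (homologyMap (syzι M 0) ij.1.2 ≫ homologyMap (coverMap (syz M 0)) ij.1.2).hom = 0 :=
    congrArg ModuleCat.Hom.hom ((homologyMap_comp (syzι M 0) (coverMap (syz M 0)) ij.1.2).symm.trans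
      ((congrArg (fun f => homologyMap f ij.1.2) (kernel.condition (coverMap (syz M 0)))).trans (homologyMap_zero _ _ _)))
  refine (congrArg (fun f => LinearMap.lTensor (L.homology ij.1.1) f (v ij)) h).trans ?_
  rw [LinearMap.lTensor_zero, LinearMap.zero_apply]
  rfl

/-- `Tor₀` is the tensor product. -/
theorem subsingleton_tensor_of_tor_zero (X Y : ModuleCat.{u} A) [Subsingleton (DRing.Tor A 0 X Y)] :
    Subsingleton (TensorProduct A X Y) :=
  haveI h : Subsingleton (((tensorLeft X).leftDerived 0).obj Y) := ‹Subsingleton (DRing.Tor A 0 X Y)›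
  (((tensorLeft X).leftDerivedZeroIsoSelf.app Y).toLinearEquiv.symm.toEquiv).subsingleton

end GrothLib.HTor22
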