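import Mathlib.Algebra.DirectSum.Module
import Groth.Prelude.Def_HTor

/-!
# Quotients of kernels by images
-/

set_option autoImplicit false
universe u v

namespace GrothLib.HTor22

variable {A : Type v} [CommRing A]

section

variable {X Y Z : Type u} [AddCommGroup X] [Module A X] [AddCommGroup Y] [Module A Y] [AddCommGroup Z] [Module A Z]

/-- `ker g / range f`. -/
abbrev Hom3 (f : X →ₗ[A] Y) (g : Y →ₗ[A] Z) : Type u :=
  ↥(LinearMap.ker g) ⧸ Submodule.comap (LinearMap.ker g).subtype (LinearMap.range f)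

/-- Two surjections with the same kernel have isomorphic targets. -/
theorem nonempty_equiv_of_ker_eq {W : Type u} [AddCommGroup W] [Module A W] (a : W →ₗ[A] X) (b : W →ₗ[A] Y)
    (ha : Function.Surjective a) (hb : Function.Surjective b) (h : LinearMap.ker a = LinearMap.ker b) :
    Nonempty (X ≃ₗ[A] Y) :=
  ⟨(a.quotKerEquivOfSurjective ha).symm.trans
    ((Submodule.quotEquivOfEq _ _ h).trans (b.quotKerEquivOfSurjective hb))⟩

theorem nonempty_hom3_congr {X' Y' Z' : Type u} [AddCommGroup X'] [Module A X'] [AddCommGroup Y'] [Module A Y']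
    [AddCommGroup Z'] [Module A Z'] (f : X →ₗ[A] Y) (g : Y →ₗ[A] Z) (f' : X' →ₗ[A] Y') (g' : Y' →ₗ[A] Z')
    (eX : X →ₗ[A] X') (eY : Y →ₗ[A] Y') (eZ : Z →ₗ[A] Z') (hX : Function.Surjective eX)
    (hY : Function.Bijective eY) (hZ : Function.Injective eZ) (hf : ∀ x, f' (eX x) = eY (f x))
    (hg : ∀ y, g' (eY y) = eZ (g y)) : Nonempty (Hom3 f g ≃ₗ[A] Hom3 f' g') := by
  let e : LinearMap.ker g →ₗ[A] LinearMap.ker g' := (eY ∘ₗ (LinearMap.ker g).subtype).codRestrict _ fun y =>
    LinearMap.mem_ker.2 ((hg y.1).trans (by rw [LinearMap.mem_ker.1 y.2, map_zero]))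
  refine nonempty_equiv_of_ker_eq (Submodule.mkQ _) ((Submodule.mkQ _) ∘ₗ e) (Submodule.mkQ_surjective _) ?_ ?_
  · refine (Submodule.mkQ_surjective _).comp fun y => ?_
    obtain ⟨y₀, hy₀⟩ := hY.2 y.1
    refine ⟨⟨y₀, LinearMap.mem_ker.2 (hZ ?_)⟩, Subtype.ext hy₀⟩
    rw [← hg, hy₀, map_zero]
    exact y.2
  · ext y
    simp only [Submodule.ker_mkQ, LinearMap.mem_ker, LinearMap.comp_apply, Submodule.mkQ_apply,
      Submodule.Quotient.mk_eq_zero, Submodule.mem_comap]
    constructor
    · rintro ⟨x, hx⟩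
      exact ⟨eX x, (hf x).trans (congrArg eY hx)⟩
    · rintro ⟨x', hx'⟩
      obtain ⟨x, rfl⟩ := hX x'
      exact ⟨x, hY.1 ((hf x).symm.trans hx')⟩

/-- Passing a subquotient to a quotient of a larger kernel. -/
theorem isSubquotient_of_between {G T : Type u} [AddCommGroup G] [Module A G] [AddCommGroup T] [Module A T]
    (f : X →ₗ[A] Y) (g : Y →ₗ[A] Z) (e : Hom3 f g ≃ₗ[A] T) (S S' : Submodule A Y)
    (hle : S ≤ S') (hS' : S' ≤ LinearMap.ker g) (hB : LinearMap.range f ≤ S)
    (eG : G ≃ₗ[A] (↥S' ⧸ Submodule.comap S'.subtype S)) : HTor.IsSubquotient A G T := by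
  let q : LinearMap.ker g →ₗ[A] T := e.toLinearMap ∘ₗ Submodule.mkQ _
  let U : Submodule A Y → Submodule A T := fun S₀ => (S₀.comap (LinearMap.ker g).subtype).map q
  refine ⟨U S, U S', Submodule.map_mono (Submodule.comap_mono hle), ?_⟩
  let a : ↥S' →ₗ[A] ↥(U S') := (q ∘ₗ Submodule.inclusion hS').codRestrict _ fun y => ⟨_, y.2, rfl⟩
  obtain ⟨i⟩ := nonempty_equiv_of_ker_eq (Submodule.mkQ (Submodule.comap S'.subtype S))
    ((Submodule.mkQ (Submodule.comap (U S').subtype (U S))) ∘ₗ a) (Submodule.mkQ_surjective _)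
    ((Submodule.mkQ_surjective _).comp fun t => by
      obtain ⟨y, hy, hyt⟩ := t.2
      exact ⟨⟨y.1, hy⟩, Subtype.ext hyt⟩) (by
      ext y
      simp only [Submodule.ker_mkQ, LinearMap.mem_ker, LinearMap.comp_apply, Submodule.mkQ_apply,
        Submodule.Quotient.mk_eq_zero, Submodule.mem_comap]
      constructor
      · intro hy
        exact ⟨⟨y.1, hS' y.2⟩, hy, rfl⟩
      · rintro ⟨z, hz, hzy⟩
        have := (Submodule.Quotient.eq _).1 (e.injective hzy)
        have h2 : z.1 - y.1 ∈ S := hB this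
        have h3 : z.1 - (z.1 - y.1) ∈ S := S.sub_mem hz h2
        rwa [sub_sub_cancel] at h3)
  exact ⟨eG.trans i⟩

theorem subsingleton_of_isSubquotient {N T : Type u} [AddCommGroup N] [Module A N] [AddCommGroup T] [Module A T]
    (h : HTor.IsSubquotient A N T) [Subsingleton T] : Subsingleton N := by
  obtain ⟨S, S', -, ⟨e⟩⟩ := h
  exact e.toEquiv.subsingleton

end

section DirectSum

open DirectSum

variable {ι : Type} [DecidableEq ι] {X Y Z : ι → Type u} [∀ i, AddCommGroup (X i)] [∀ i, Module A (X i)]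
  [∀ i, AddCommGroup (Y i)] [∀ i, Module A (Y i)] [∀ i, AddCommGroup (Z i)] [∀ i, Module A (Z i)]

theorem nonempty_hom3_lmap (f : ∀ i, X i →ₗ[A] Y i) (g : ∀ i, Y i →ₗ[A] Z i) :
    Nonempty (Hom3 (DirectSum.lmap f) (DirectSum.lmap g) ≃ₗ[A] DirectSum ι fun i => Hom3 (f i) (g i)) := by
  let inc : DirectSum ι (fun i => LinearMap.ker (g i)) →ₗ[A] DirectSum ι Y :=
    DirectSum.lmap fun i => (LinearMap.ker (g i)).subtype
  let a : DirectSum ι (fun i => LinearMap.ker (g i)) →ₗ[A] LinearMap.ker (DirectSum.lmap g) :=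
    inc.codRestrict _ fun x => LinearMap.mem_ker.2 (DFinsupp.ext fun i => (x i).2)
  have ha : Function.Surjective a := fun y => by
    have hy : y.1 ∈ LinearMap.range inc := by
      rw [DirectSum.range_lmap]
      intro i _
      refine ⟨⟨y.1 i, LinearMap.mem_ker.2 ?_⟩, rfl⟩
      have := DFinsupp.ext_iff.1 (LinearMap.mem_ker.1 y.2) i
      exact this
    obtain ⟨x, hx⟩ := hy
    exact ⟨x, Subtype.ext hx⟩
  refine nonempty_equiv_of_ker_eq ((Submodule.mkQ _) ∘ₗ a)
    (DirectSum.lmap fun i => Submodule.mkQ (Submodule.comap (LinearMap.ker (g i)).subtype (LinearMap.range (f i))))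
    ((Submodule.mkQ_surjective _).comp ha) ((DirectSum.lmap_surjective _).2 fun i => Submodule.mkQ_surjective _) ?_
  ext x
  simp only [LinearMap.mem_ker, LinearMap.comp_apply, Submodule.mkQ_apply, Submodule.Quotient.mk_eq_zero,
    Submodule.mem_comap]
  rw [show (LinearMap.ker (DirectSum.lmap g)).subtype (a x) = inc x from rfl, DirectSum.range_lmap]
  constructor
  · intro h
    refine DFinsupp.ext fun i => ?_
    rw [DirectSum.lmap_apply]
    exact (Submodule.Quotient.mk_eq_zero _).2 (h i trivial)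
  · intro h i _
    have h2 := DFinsupp.ext_iff.1 h i
    rw [DirectSum.lmap_apply] at h2
    have h3 := Submodule.mem_comap.1 ((Submodule.Quotient.mk_eq_zero _).1 h2)
    simpa [inc, DirectSum.lmap_apply] using h3

theorem nonempty_congr_index {κ : Type} [DecidableEq κ] {W : κ → Type u} [∀ k, AddCommGroup (W k)]
    [∀ k, Module A (W k)] (σ : ι ≃ κ) (e : ∀ i, X i ≃ₗ[A] W (σ i)) :
    Nonempty (DirectSum ι X ≃ₗ[A] DirectSum κ W) := by
  let φ : DirectSum ι X →ₗ[A] DirectSum κ W :=
    DirectSum.toModule A ι _ fun i => DirectSum.lof A κ W (σ i) ∘ₗ (e i).toLinearMap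
  have happ : ∀ x i, φ x (σ i) = e i (x i) := by
    intro x i
    induction x using DirectSum.induction_on with
    | zero => simp only [map_zero, DirectSum.zero_apply]
    | of j t =>
      rw [← DirectSum.lof_eq_of A, DirectSum.toModule_lof, LinearMap.comp_apply]
      by_cases h : i = j
      · subst h
        rw [DirectSum.lof_apply, DirectSum.lof_apply]
        rfl
      · rw [DirectSum.lof_eq_of A, DirectSum.lof_eq_of A, DirectSum.of_eq_of_ne _ _ _ h,
          DirectSum.of_eq_of_ne _ _ _ fun hh => h (σ.injective hh), map_zero]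
    | add a b ha hb => simp only [map_add, DirectSum.add_apply, ha, hb]
  refine ⟨LinearEquiv.ofBijective φ ⟨(injective_iff_map_eq_zero _).2 fun x hx => DFinsupp.ext fun i => ?_,
    fun y => ?_⟩⟩
  · refine (e i).injective ((happ x i).symm.trans ?_)
    rw [hx, DirectSum.zero_apply]
    exact (map_zero (e i)).symm
  · induction y using DirectSum.induction_on with
    | zero => exact ⟨0, map_zero φ⟩
    | of k t =>
      obtain ⟨i, rfl⟩ := σ.surjective k
      refine ⟨DirectSum.lof A ι X i ((e i).symm t), ?_⟩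
      rw [DirectSum.toModule_lof, LinearMap.comp_apply, LinearEquiv.coe_toLinearMap, LinearEquiv.apply_symm_apply,
        DirectSum.lof_eq_of]
    | add a b ha hb =>
      obtain ⟨a', rfl⟩ := ha
      obtain ⟨b', rfl⟩ := hb
      exact ⟨a' + b', map_add φ a' b'⟩

end DirectSum

end GrothLib.HTor22
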