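import Groth.Agent.Lib.HTor22.Cover
import Groth.Agent.Lib.HTor22.Algebra
import Mathlib.CategoryTheory.Monoidal.Tor
import Mathlib.Algebra.Homology.HomologySequence

/-!
# The filtration of the homology of a tensor product
-/

set_option autoImplicit false
set_option linter.style.haveILetI false
universe u

open CategoryTheory CategoryTheory.Limits MonoidalCategory HomologicalComplex TensorProduct

attribute [local instance] HasDerivedCategory.standard

namespace GrothLib.HTor22

variable {A : Type u} [CommRing A]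

/-- Tensoring with a complex of flat modules is exact. -/
theorem tensorCx_shortExact_flat (L : DRing.Cx A) (hL : DRing.TermwiseFlat L) {S : ShortComplex (DRing.Cx A)}
    (hS : S.ShortExact) : (S.map ((GrothLib.KF.tensorCx (R := A)).obj L)).ShortExact := by
  refine HomologicalComplex.shortExact_of_degreewise_shortExact _ fun m => ?_
  have : (GrothLib.KF.summandsFun L m).PreservesZeroMorphisms := ⟨fun K K' => NatTrans.ext (funext fun p =>
    (((curriedTensor (ModuleCat.{u} A)).obj (L.X p.as)).map_zero _ _))⟩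
  have h : ∀ (p q : ℤ), ((S.map (HomologicalComplex.eval (ModuleCat.{u} A) (ComplexShape.up ℤ) q)).map
      ((curriedTensor (ModuleCat.{u} A)).obj (L.X p))).ShortExact := fun p q => by
    have hq := hS.map_of_exact (HomologicalComplex.eval (ModuleCat.{u} A) (ComplexShape.up ℤ) q)
    haveI : Module.Flat A (L.X p) := hL p
    let S' := S.map (HomologicalComplex.eval (ModuleCat.{u} A) (ComplexShape.up ℤ) q)
    have hg := (ModuleCat.epi_iff_surjective _).1 hq.epi_g
    have hex := (ShortComplex.ShortExact.moduleCat_exact_iff_function_exact S').1 hq.exact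
    exact
      { exact := (ShortComplex.ShortExact.moduleCat_exact_iff_function_exact _).2 (lTensor_exact (L.X p) hex hg)
        mono_f := (ModuleCat.mono_iff_injective _).2
          (Module.Flat.lTensor_preserves_injective_linearMap (M := L.X p) S'.f.hom
            ((ModuleCat.mono_iff_injective _).1 hq.mono_f))
        epi_g := (ModuleCat.epi_iff_surjective _).2 (LinearMap.lTensor_surjective (L.X p) hg) }
  have hS' : (S.map (GrothLib.KF.summandsFun L m)).ShortExact :=
    { exact := by
        rw [ShortComplex.exact_iff_isZero_homology]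
        refine Functor.isZero _ fun p => ?_
        have hp : ((S.map (GrothLib.KF.summandsFun L m)).map ((evaluation _ _).obj p)).Exact := (h p.as (m - p.as)).exact
        exact IsZero.of_iso ((ShortComplex.exact_iff_isZero_homology _).1 hp)
          ((S.map (GrothLib.KF.summandsFun L m)).mapHomologyIso ((evaluation _ _).obj p)).symm
      mono_f := (NatTrans.mono_iff_mono_app _).2 fun p => (h p.as (m - p.as)).mono_f
      epi_g := (NatTrans.epi_iff_epi_app _).2 fun p => (h p.as (m - p.as)).epi_g }
  exact ShortComplex.shortExact_of_iso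
    (ShortComplex.isoMk ((GrothLib.KF.degIso L m).app _) ((GrothLib.KF.degIso L m).app _)
      ((GrothLib.KF.degIso L m).app _)
      ((GrothLib.KF.degIso L m).hom.naturality S.f).symm ((GrothLib.KF.degIso L m).hom.naturality S.g).symm)
    (hS'.map_of_exact (colim (J := Discrete ℤ) (C := (ModuleCat.{u} A))))

theorem isZero_tensor_X {L K : DRing.Cx A} {a b : ℤ} (hL : DRing.VanishesAbove L a) (hK : DRing.VanishesAbove K b)
    (n : ℤ) (hn : a + b < n) : IsZero ((HTor.tensorCx L K).X n) := by
  haveI : Subsingleton ((HTor.tensorCx L K).X n) := by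
    have h : (LinearMap.id : (HTor.tensorCx L K).X n →ₗ[A] (HTor.tensorCx L K).X n) = 0 :=
      hom_ext_pure fun i j hij t => by
        suffices ht : t = 0 by rw [ht, map_zero]; rfl
        induction t with
        | zero => rfl
        | tmul x y =>
          by_cases hi : a < i
          · rw [(ModuleCat.subsingleton_of_isZero (hL i hi)).elim x 0, zero_tmul]
          · rw [(ModuleCat.subsingleton_of_isZero (hK j (by omega))).elim y 0, tmul_zero]
        | add x y hx hy => rw [hx, hy, add_zero]
    exact ⟨fun x y => (LinearMap.congr_fun h x).trans (LinearMap.congr_fun h y).symm⟩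
  exact ModuleCat.isZero_of_subsingleton _

variable (L M : DRing.Cx A)

theorem tmap_comp (L : DRing.Cx A) {M M' M'' : DRing.Cx A} (f : M ⟶ M') (g : M' ⟶ M'') :
    tmap L (f ≫ g) = tmap L f ≫ tmap L g :=
  ((GrothLib.KF.tensorCx (R := A)).obj L).map_comp f g

theorem tmap_zero (L M M' : DRing.Cx A) : tmap L (0 : M ⟶ M') = 0 :=
  ((GrothLib.KF.tensorCx (R := A)).obj L).map_zero M M'

/-- The syzygy complexes. -/
noncomputable def syz : ℕ → DRing.Cx A
  | 0 => M
  | p + 1 => kernel (coverMap (syz p))

/-- The inclusion of a syzygy in the cover. -/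
noncomputable def syzι (p : ℕ) : syz M (p + 1) ⟶ cover (syz M p) := kernel.ι (coverMap (syz M p))

/-- The short exact sequences. -/
noncomputable abbrev syzSC (p : ℕ) : ShortComplex (DRing.Cx A) :=
  ShortComplex.mk (syzι M p) (coverMap (syz M p)) (kernel.condition _)

theorem syzSC_shortExact (p : ℕ) : (syzSC M p).ShortExact where
  exact := ShortComplex.exact_of_f_is_kernel _ (kernelIsKernel (coverMap (syz M p)))
  mono_f := inferInstanceAs (Mono (kernel.ι (coverMap (syz M p))))
  epi_g := haveI := epi_coverMap_f (syz M p); HomologicalComplex.epi_of_epi_f _ fun n => epi_coverMap_f (syz M p) n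

theorem vanishesAbove_syz {b : ℤ} (hb : DRing.VanishesAbove M b) : ∀ p, DRing.VanishesAbove (syz M p) b
  | 0 => hb
  | p + 1 => fun n hn => by
    haveI : Mono ((syzι M p).f n) :=
      ((syzSC_shortExact M p).map_of_exact (HomologicalComplex.eval (ModuleCat.{u} A) (ComplexShape.up ℤ) n)).mono_f
    exact IsZero.of_mono ((syzι M p).f n) (vanishesAbove_cover (vanishesAbove_syz hb p) n hn)

/-- The map between consecutive covers. -/
noncomputable abbrev coverD (p : ℕ) : cover (syz M (p + 1)) ⟶ cover (syz M p) :=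
  coverMap (syz M (p + 1)) ≫ syzι M p

theorem injective_homologyMap_syzι (p : ℕ) (j : ℤ) : Function.Injective (homologyMap (syzι M p) j) := by
  refine (injective_iff_map_eq_zero _).2 fun x hx => ?_
  obtain ⟨y, rfl⟩ := (ShortComplex.moduleCat_exact_iff _).1
    ((syzSC_shortExact M p).homology_exact₁ (j - 1) j (by simp)) x hx
  obtain ⟨z, rfl⟩ := surjective_homologyMap_coverMap (syz M p) (j - 1) y
  exact ConcreteCategory.congr_hom ((syzSC_shortExact M p).comp_δ (j - 1) j (by simp)) z

theorem exists_homologyMap_syzι_eq (p : ℕ) (j : ℤ) (y : (cover (syz M p)).homology j)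
    (hy : homologyMap (coverMap (syz M p)) j y = 0) : ∃ x, homologyMap (syzι M p) j x = y :=
  (ShortComplex.moduleCat_exact_iff _).1 ((syzSC_shortExact M p).homology_exact₂ j) y hy

theorem coverMap_coverD_zero (p : ℕ) : coverD M p ≫ coverMap (syz M p) = 0 := by
  rw [Category.assoc, show syzι M p ≫ coverMap (syz M p) = 0 from kernel.condition _, comp_zero]

theorem coverD_comp (p : ℕ) : coverD M (p + 1) ≫ coverD M p = 0 := by
  rw [← Category.assoc (coverD M (p + 1)), coverMap_coverD_zero, zero_comp]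

/-- The free resolution of the homology. -/
noncomputable def resCx (j : ℤ) : ChainComplex (ModuleCat.{u} A) ℕ :=
  ChainComplex.of (fun p => (cover (syz M p)).homology j) (fun p => homologyMap (coverD M p) j) fun p => by
    rw [← homologyMap_comp, coverD_comp, homologyMap_zero]

theorem resCx_d (j : ℤ) (p : ℕ) : (resCx M j).d (p + 1) p = homologyMap (coverD M p) j :=
  ChainComplex.of_d (fun p => (cover (syz M p)).homology j) (fun p => homologyMap (coverD M p) j) p

theorem resCx_exact (j : ℤ) (p : ℕ) (x : (cover (syz M (p + 1))).homology j)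
    (hx : homologyMap (coverD M p) j x = 0) : ∃ y, homologyMap (coverD M (p + 1)) j y = x := by
  rw [homologyMap_comp] at hx
  obtain ⟨z, rfl⟩ := exists_homologyMap_syzι_eq M (p + 1) j x
    (injective_homologyMap_syzι M p j (hx.trans (map_zero _).symm))
  obtain ⟨y, rfl⟩ := surjective_homologyMap_coverMap (syz M (p + 2)) j z
  exact ⟨y, by rw [homologyMap_comp]; rfl⟩

/-- The augmentation. -/
noncomputable def resπ (j : ℤ) : (resCx M j) ⟶ (ChainComplex.single₀ (ModuleCat.{u} A)).obj (M.homology j) :=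
  ((ChainComplex.toSingle₀Equiv (resCx M j) (M.homology j)).symm ⟨homologyMap (coverMap M) j, by
    exact (congrArg (· ≫ homologyMap (coverMap M) j) (resCx_d M j 0)).trans ((homologyMap_comp _ _ j).symm.trans
      ((congrArg (homologyMap · j) (coverMap_coverD_zero M 0)).trans (homologyMap_zero _ _ _)))⟩)

theorem quasiIso_resπ (j : ℤ) : QuasiIso (resπ M j) := by
  refine ⟨fun n => ?_⟩
  cases n with
  | zero =>
    rw [ChainComplex.quasiIsoAt₀_iff, ShortComplex.quasiIso_iff_of_zeros']
    · let S := ShortComplex.mk (homologyMap (coverD M 0) j) (homologyMap (coverMap M) j)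
        ((homologyMap_comp (coverD M 0) (coverMap M) j).symm.trans
            ((congrArg (homologyMap · j) (coverMap_coverD_zero M 0)).trans (homologyMap_zero _ _ _)))
      have hS : S.Exact ∧ Epi S.g := ⟨(ShortComplex.moduleCat_exact_iff _).2 fun x hx => by
        obtain ⟨z, rfl⟩ := exists_homologyMap_syzι_eq M 0 j x hx
        obtain ⟨y, rfl⟩ := surjective_homologyMap_coverMap (syz M 1) j z
        exact ⟨y, (ConcreteCategory.congr_hom (homologyMap_comp (coverMap (syz M 1)) (syzι M 0) j) y :)⟩,
        (ModuleCat.epi_iff_surjective _).2 (surjective_homologyMap_coverMap M j)⟩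
      refine (ShortComplex.exact_and_epi_g_iff_of_iso ?_).2 hS
      exact ShortComplex.isoMk (Iso.refl _) (Iso.refl _) (Iso.refl _)
        ((Category.id_comp _).trans ((resCx_d M j 0).symm.trans (Category.comp_id _).symm)) (by simp [S, resπ]; rfl)
    all_goals rfl
  | succ p =>
    rw [quasiIsoAt_iff_exactAt']
    · rw [HomologicalComplex.exactAt_iff' _ (p + 1 + 1) (p + 1) p (by simp) (by simp),
        ShortComplex.moduleCat_exact_iff]
      intro x hx
      change (resCx M j).d (p + 1) p x = 0 at hx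
      rw [resCx_d] at hx
      obtain ⟨y, hy⟩ := resCx_exact M j p x hx
      refine ⟨y, ?_⟩
      change (resCx M j).d (p + 1 + 1) (p + 1) y = x
      rw [resCx_d]
      exact hy
    · exact ChainComplex.exactAt_succ_single_obj _ _

/-- The projective resolution. -/
noncomputable def projRes (j : ℤ) : ProjectiveResolution (M.homology j) where
  complex := resCx M j
  π := resπ M j
  quasiIso := quasiIso_resπ M j
  projective p := (IsProjective.iff_projective ((cover (syz M p)).homology j)).1 (projective_homology_cover (syz M p) j)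

theorem nonempty_tor_hom3 (X : ModuleCat.{u} A) (j : ℤ) (p : ℕ) :
    Nonempty (Hom3 (LinearMap.lTensor X (homologyMap (coverD M (p + 1)) j).hom)
      (LinearMap.lTensor X (homologyMap (coverD M p) j).hom) ≃ₗ[A] DRing.Tor A (p + 1) X (M.homology j)) := by
  let C := ((tensorLeft X).mapHomologicalComplex (ComplexShape.down ℕ)).obj (resCx M j)
  let e : DRing.Tor A (p + 1) X (M.homology j) ≃ₗ[A] C.homology (p + 1) :=
    ((projRes M j).isoLeftDerivedObj (tensorLeft X) (p + 1)).toLinearEquiv
  let e' : C.homology (p + 1) ≃ₗ[A] (C.sc' (p + 1 + 1) (p + 1) p).moduleCatLeftHomologyData.H :=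
    (ShortComplex.homologyMapIso (C.isoSc' (p + 1 + 1) (p + 1) p (by simp) (by simp)) ≪≫
      (C.sc' (p + 1 + 1) (p + 1) p).moduleCatHomologyIso).toLinearEquiv
  have hd : ∀ q, (C.d (q + 1) q).hom = LinearMap.lTensor X (homologyMap (coverD M q) j).hom := fun q => by
    change ((tensorLeft X).map ((resCx M j).d (q + 1) q)).hom = _
    rw [resCx_d]
    rfl
  let S := C.sc' (p + 1 + 1) (p + 1) p
  obtain ⟨e''⟩ : Nonempty (S.moduleCatLeftHomologyData.H ≃ₗ[A] Hom3 S.f.hom S.g.hom) := by
    refine ⟨Submodule.quotEquivOfEq _ _ ?_⟩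
    ext x
    constructor
    · rintro ⟨y, rfl⟩
      exact ⟨y, rfl⟩
    · rintro ⟨y, hy⟩
      exact ⟨y, Subtype.ext hy⟩
  obtain ⟨e₄⟩ := nonempty_hom3_congr S.f.hom S.g.hom
    (LinearMap.lTensor X (homologyMap (coverD M (p + 1)) j).hom) (LinearMap.lTensor X (homologyMap (coverD M p) j).hom)
    (LinearMap.id (M := S.X₁)) (LinearMap.id (M := S.X₂)) (LinearMap.id (M := S.X₃)) Function.surjective_id
    Function.bijective_id Function.injective_id (fun x => (LinearMap.congr_fun (hd (p + 1)) x).symm)
    (fun y => (LinearMap.congr_fun (hd p) y).symm)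
  exact ⟨(e.trans (e'.trans (e''.trans e₄))).symm⟩

variable {L} (hL : DRing.TermwiseFlat L) (bL : ∃ b, DRing.VanishesAbove L b) (n : ℤ)

include hL bL in
theorem nonempty_hom3_torSum (p : ℕ) :
    Nonempty (Hom3 (homologyMap (tmap L (coverD M (p + 1))) (n + ((p + 1 : ℕ) : ℤ))).hom
      (homologyMap (tmap L (coverD M p)) (n + ((p + 1 : ℕ) : ℤ))).hom ≃ₗ[A] HTor.TorSum L M n (p + 1)) := by
  let m : ℤ := n + ((p + 1 : ℕ) : ℤ)
  let f := fun ij : HTor.Antidiag m => LinearMap.lTensor (L.homology ij.1.1) (homologyMap (coverD M (p + 1)) ij.1.2).hom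
  let g := fun ij : HTor.Antidiag m => LinearMap.lTensor (L.homology ij.1.1) (homologyMap (coverD M p) ij.1.2).hom
  obtain ⟨e₁⟩ := nonempty_hom3_congr (DirectSum.lmap f) (DirectSum.lmap g)
    (homologyMap (tmap L (coverD M (p + 1))) m).hom (homologyMap (tmap L (coverD M p)) m).hom
    (kunneth L _ m) (kunneth L _ m) (kunneth L _ m)
    (kunneth_bijective_cover (syz M (p + 2)) L hL bL m).2 (kunneth_bijective_cover (syz M (p + 1)) L hL bL m)
    (kunneth_bijective_cover (syz M p) L hL bL m).1 (homologyMap_kunneth m (coverD M (p + 1)))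
    (homologyMap_kunneth m (coverD M p))
  obtain ⟨e₂⟩ := nonempty_hom3_lmap f g
  let σ : HTor.Antidiag m ≃ {ij : ℤ × ℤ // ij.1 + ij.2 - ((p + 1 : ℕ) : ℤ) = n} :=
    Equiv.subtypeEquivRight fun ij => by simp only [m]; omega
  obtain ⟨e₄⟩ := nonempty_congr_index (W := fun ij : {ij : ℤ × ℤ // ij.1 + ij.2 - ((p + 1 : ℕ) : ℤ) = n} =>
    DRing.Tor A (p + 1) (L.homology ij.1.1) (M.homology ij.1.2)) σ fun ij : HTor.Antidiag m => (nonempty_tor_hom3 M (L.homology ij.1.1) ij.1.2 p).some
  exact ⟨e₁.symm.trans (e₂.trans e₄)⟩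

theorem tensor_syzSC (p : ℕ) : ((syzSC M p).map ((GrothLib.KF.tensorCx (R := A)).obj L)).g = tmap L (coverMap (syz M p)) :=
  rfl

/-- The iterated connecting maps. -/
noncomputable def iterδ : (p : ℕ) → ((HTor.tensorCx L M).homology n ⟶ (HTor.tensorCx L (syz M p)).homology (n + (p : ℤ)))
  | 0 => eqToHom (congrArg (fun k => (HTor.tensorCx L M).homology k) (by simp))
  | p + 1 => iterδ p ≫ (tensorCx_shortExact_flat L hL (syzSC_shortExact M p)).δ (n + (p : ℤ)) (n + ((p + 1 : ℕ) : ℤ))
      (by change n + (p : ℤ) + 1 = n + ((p + 1 : ℕ) : ℤ); omega)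

/-- The filtration. -/
noncomputable def fil (p : ℕ) : Submodule A ((HTor.tensorCx L M).homology n) :=
  LinearMap.ker (iterδ M hL n (p + 1)).hom

theorem fil_mono : Monotone (fil M hL n) := monotone_nat_of_le_succ fun p x hx => by
  change ((iterδ M hL n (p + 1)) ≫ (tensorCx_shortExact_flat L hL (syzSC_shortExact M (p + 1))).δ _ _ _).hom x = 0
  rw [ModuleCat.hom_comp, LinearMap.comp_apply, LinearMap.mem_ker.1 hx, map_zero]

theorem iterδ_eq (m k : ℤ) (h : n = m) (hk : m + 1 = k) :
    LinearMap.ker (eqToHom (congrArg (fun k => (HTor.tensorCx L M).homology k) h) ≫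
      (tensorCx_shortExact_flat L hL (syzSC_shortExact M 0)).δ m k hk).hom =
        LinearMap.range (homologyMap (tmap L (coverMap M)) n).hom := by
  subst h
  rw [eqToHom_refl, Category.id_comp]
  have hex := (tensorCx_shortExact_flat L hL (syzSC_shortExact M 0)).homology_exact₃ n k hk
  refine le_antisymm (fun x hx => (ShortComplex.moduleCat_exact_iff _).1 hex x hx) ?_
  rintro _ ⟨y, rfl⟩
  exact ConcreteCategory.congr_hom ((tensorCx_shortExact_flat L hL (syzSC_shortExact M 0)).comp_δ n k hk) y

include bL in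
theorem fil_zero : fil M hL n 0 = LinearMap.range (kunneth L M n) := by
  refine (iterδ_eq M hL n (n + ((0 : ℕ) : ℤ)) (n + ((0 + 1 : ℕ) : ℤ)) (by simp) (by omega)).trans ?_
  let l := DirectSum.lmap fun ij : HTor.Antidiag n => LinearMap.lTensor (L.homology ij.1.1) (homologyMap (coverMap M) ij.1.2).hom
  have hl : Function.Surjective l := (DirectSum.lmap_surjective _).2 fun ij =>
    LinearMap.lTensor_surjective _ (surjective_homologyMap_coverMap M ij.1.2)
  apply le_antisymm
  · rintro _ ⟨y, rfl⟩
    obtain ⟨x, rfl⟩ := (kunneth_bijective_cover M L hL bL n).2 y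
    exact ⟨l x, (homologyMap_kunneth n (coverMap M) x).symm⟩
  · rintro _ ⟨y, rfl⟩
    obtain ⟨x, rfl⟩ := hl y
    exact ⟨kunneth L (cover M) n x, homologyMap_kunneth n (coverMap M) x⟩

theorem fil_top {a b : ℤ} (ha : DRing.VanishesAbove L a) (hb : DRing.VanishesAbove M b) (p : ℕ)
    (hp : a + b < n + ((p + 1 : ℕ) : ℤ)) : fil M hL n p = ⊤ := by
  haveI := ModuleCat.subsingleton_of_isZero ((HomologicalComplex.exactAt_iff_isZero_homology _ _).1
    (ShortComplex.exact_of_isZero_X₂ ((HTor.tensorCx L (syz M (p + 1))).sc (n + ((p + 1 : ℕ) : ℤ))) (isZero_tensor_X ha (vanishesAbove_syz M hb (p + 1)) _ hp)))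
  exact eq_top_iff.2 fun x _ => LinearMap.mem_ker.2 (Subsingleton.elim _ _)

include bL in
theorem isSubquotient_gr (p : ℕ) :
    HTor.IsSubquotient A (HTor.grSucc (fil M hL n) p) (HTor.TorSum L M n (p + 1)) := by
  obtain ⟨e⟩ := nonempty_hom3_torSum M hL bL n p
  let m : ℤ := n + ((p + 1 : ℕ) : ℤ)
  let h₁ := tensorCx_shortExact_flat L hL (syzSC_shortExact M (p + 1))
  have hrel : m + 1 = n + ((p + 1 + 1 : ℕ) : ℤ) := by simp only [m]; omega
  let Δ := (iterδ M hL n (p + 1)).hom
  let π := (homologyMap (tmap L (coverMap (syz M (p + 1)))) m).hom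
  let S : Submodule A _ := LinearMap.ker π
  let S' : Submodule A _ := Submodule.comap π (LinearMap.range Δ)
  have hle : S ≤ S' := fun q hq => ⟨0, by rw [map_zero]; exact (LinearMap.mem_ker.1 hq).symm⟩
  have hB : LinearMap.range (homologyMap (tmap L (coverD M (p + 1))) m).hom ≤ S := by
    rintro _ ⟨y, rfl⟩
    rw [LinearMap.mem_ker]
    change (homologyMap (tmap L (coverD M (p + 1))) m ≫ homologyMap (tmap L (coverMap (syz M (p + 1)))) m) y = 0
    rw [← homologyMap_comp, ← tmap_comp, coverMap_coverD_zero, tmap_zero, homologyMap_zero]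
    rfl
  have hS' : S' ≤ LinearMap.ker (homologyMap (tmap L (coverD M p)) m).hom := by
    rintro q ⟨x, hx⟩
    rw [LinearMap.mem_ker]
    have h2 : homologyMap (tmap L (coverD M p)) m =
        homologyMap (tmap L (coverMap (syz M (p + 1)))) m ≫ homologyMap (tmap L (syzι M p)) m := by
      rw [← homologyMap_comp, ← tmap_comp]
    rw [h2, ModuleCat.hom_comp, LinearMap.comp_apply]
    change homologyMap (tmap L (syzι M p)) m (π q) = 0
    rw [← hx]
    exact ConcreteCategory.congr_hom ((tensorCx_shortExact_flat L hL (syzSC_shortExact M p)).δ_comp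
      (n + (p : ℤ)) m (by change n + (p : ℤ) + 1 = m; simp only [m]; omega)) (iterδ M hL n p x)
  refine isSubquotient_of_between _ _ e S S' hle hS' hB ?_
  -- both are the image of `fil (p + 1)`
  let W := LinearMap.range Δ ⊓ LinearMap.range π
  have hker : ∀ y, y ∈ LinearMap.range π ↔ (h₁.δ m (n + ((p + 1 + 1 : ℕ) : ℤ)) hrel).hom y = 0 := fun y =>
    ⟨fun ⟨z, hz⟩ => hz ▸ ConcreteCategory.congr_hom (h₁.comp_δ m _ hrel) z,
      fun hy => (ShortComplex.moduleCat_exact_iff _).1 (h₁.homology_exact₃ m _ hrel) y hy⟩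
  let a : ↥(fil M hL n (p + 1)) →ₗ[A] ↥W := (Δ ∘ₗ (fil M hL n (p + 1)).subtype).codRestrict W fun x =>
    ⟨⟨x.1, rfl⟩, (hker _).2 (LinearMap.mem_ker.1 x.2)⟩
  let b : ↥S' →ₗ[A] ↥W := (π ∘ₗ S'.subtype).codRestrict W fun q => ⟨q.2, ⟨q.1, rfl⟩⟩
  have ha : Function.Surjective a := fun w => by
    obtain ⟨x, hx⟩ := w.2.1
    exact ⟨⟨x, LinearMap.mem_ker.2 ((hker _).1 (hx.symm ▸ w.2.2))⟩, Subtype.ext hx⟩
  have hb : Function.Surjective b := fun w => by
    obtain ⟨q, hq⟩ := w.2.2
    exact ⟨⟨q, show π q ∈ LinearMap.range Δ from hq.symm ▸ w.2.1⟩, Subtype.ext hq⟩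
  exact (Classical.choice (nonempty_equiv_of_ker_eq (Submodule.mkQ _) a (Submodule.mkQ_surjective _) ha (by
      rw [Submodule.ker_mkQ, LinearMap.ker_codRestrict]; rfl))).trans
    (Classical.choice (nonempty_equiv_of_ker_eq (Submodule.mkQ (Submodule.comap S'.subtype S)) b
      (Submodule.mkQ_surjective _) hb (by ext x; simp [b, S]))).symm

/-- **The Künneth spectral filtration.** -/
theorem exists_filtration (hL : DRing.TermwiseFlat L) (bL : ∃ b, DRing.VanishesAbove L b)
    (bM : ∃ b, DRing.VanishesAbove M b) (n : ℤ) :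
    ∃ (N : ℕ) (F : ℕ → Submodule A ((HTor.tensorCx L M).homology n)),
      F 0 = LinearMap.range (kunneth L M n) ∧ Monotone F ∧ F N = ⊤ ∧
        ∀ p : ℕ, HTor.IsSubquotient A (HTor.grSucc F p) (HTor.TorSum L M n (p + 1)) := by
  obtain ⟨a, ha⟩ := bL
  obtain ⟨b, hb⟩ := bM
  exact ⟨(a + b - n).toNat, fil M hL n, fil_zero M hL ⟨a, ha⟩ n, fil_mono M hL n,
    fil_top M hL n ha hb _ (by omega), isSubquotient_gr M hL ⟨a, ha⟩ n⟩

theorem eq_range_of_subsingleton_torSum (hL : DRing.TermwiseFlat L) (bL : ∃ b, DRing.VanishesAbove L b)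
    (bM : ∃ b, DRing.VanishesAbove M b) (n : ℤ) (h : ∀ p : ℕ, Subsingleton (HTor.TorSum L M n (p + 1))) :
    Function.Surjective (kunneth L M n) := by
  obtain ⟨N, F, h0, -, hN, hgr⟩ := exists_filtration M hL bL bM n
  have : ∀ p, F p ≤ F 0 := fun p => by
    induction p with
    | zero => exact le_rfl
    | succ p ih =>
      haveI := h p
      haveI := subsingleton_of_isSubquotient (hgr p)
      intro x hx
      refine ih ?_
      have := (Submodule.Quotient.mk_eq_zero _).1 (Subsingleton.elim (Submodule.Quotient.mk ⟨x, hx⟩ : HTor.grSucc F p) 0)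
      exact this
  intro y
  have := this N (hN ▸ Submodule.mem_top : y ∈ F N)
  rw [h0] at this
  exact this

end GrothLib.HTor22
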