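import Groth.Agent.Lib.DCxKFlat.Balance
import Groth.Agent.Lib.DCxKFlat.BaseChange

/-!
# Balance of Tor and base change along resolutions staying exact
-/

set_option autoImplicit false
set_option linter.style.haveILetI false
universe u

open CategoryTheory CategoryTheory.Limits MonoidalCategory HomologicalComplex

attribute [local instance] HasDerivedCategory.standard

namespace GrothLib.HTor22

variable {A : Type u} [CommRing A]

/-- `Tor_n` is the homology in degree `-n` of the tensor product with the cochain resolution. -/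
theorem nonempty_tensorCx_homology_iso (M : ModuleCat.{u} A) {N : ModuleCat.{u} A} (P : ProjectiveResolution N)
    (n : ℕ) : Nonempty ((DRing.tensorCx P.cochainComplex M).homology (-(n : ℤ)) ≅
      ((CategoryTheory.Tor (ModuleCat.{u} A) n).obj M).obj N) := by
  let F := tensorLeft M
  let C := (F.mapHomologicalComplex (ComplexShape.down ℕ)).obj P.complex
  let D := DRing.tensorCx P.cochainComplex M
  let τ : ∀ (j : ℤ) (k : ℕ), -(k : ℤ) = j → (D.X j ≅ C.X k) := fun j k h =>
    (tensorRight M).mapIso (P.cochainComplexXIso j k h) ≪≫ β_ (P.complex.X k) M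
  have hτ : ∀ (n₁ n₂ : ℤ) (k₁ k₂ : ℕ) (h₁ : -(k₁ : ℤ) = n₁) (h₂ : -(k₂ : ℤ) = n₂),
      (τ n₁ k₁ h₁).hom ≫ C.d k₁ k₂ = D.d n₁ n₂ ≫ (τ n₂ k₂ h₂).hom := by
    intro n₁ n₂ k₁ k₂ h₁ h₂
    change ((P.cochainComplexXIso n₁ k₁ h₁).hom ▷ M ≫ (β_ _ _).hom) ≫ M ◁ P.complex.d k₁ k₂ =
      P.cochainComplex.d n₁ n₂ ▷ M ≫ ((P.cochainComplexXIso n₂ k₂ h₂).hom ▷ M ≫ (β_ _ _).hom)
    rw [P.cochainComplex_d n₁ n₂ k₁ k₂ h₁ h₂]
    simp only [comp_whiskerRight, Category.assoc, inv_hom_whiskerRight_assoc]
    rw [← BraidedCategory.braiding_naturality_left]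
  let e : C.homology n ≅ ((CategoryTheory.Tor (ModuleCat.{u} A) n).obj M).obj N := (P.isoLeftDerivedObj F n).symm
  cases n with
  | succ p =>
    let i : D.sc' (-((p + 2 : ℕ) : ℤ)) (-((p + 1 : ℕ) : ℤ)) (-((p : ℕ) : ℤ)) ≅ C.sc' (p + 2) (p + 1) p :=
      ShortComplex.isoMk (τ _ (p + 2) rfl) (τ _ (p + 1) rfl) (τ _ p rfl) (hτ _ _ _ _ rfl rfl) (hτ _ _ _ _ rfl rfl)
    exact ⟨ShortComplex.homologyMapIso (D.isoSc' (-((p + 2 : ℕ) : ℤ)) (-((p + 1 : ℕ) : ℤ)) (-((p : ℕ) : ℤ))
      (by simp; omega) (by simp) ≪≫ i ≪≫ (C.isoSc' (p + 2) (p + 1) p (by simp) (by simp)).symm) ≪≫ e⟩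
  | zero =>
    have h1 : IsZero (D.X 1) := (tensorRight M).map_isZero
      (GrothLib.KF.vanishesAbove_cochainComplex P 1 (by omega))
    let f : D.sc' (-1) 0 1 ⟶ C.sc' 1 0 0 :=
      ShortComplex.homMk (τ (-1) 1 rfl).hom (τ 0 0 rfl).hom 0 (hτ _ _ _ _ rfl rfl) (by
        rw [comp_zero]
        exact (congrArg ((τ 0 0 rfl).hom ≫ ·) (C.shape 0 0 (by simp))).trans comp_zero)
    haveI : Mono f.τ₃ := ⟨fun a b _ => h1.eq_of_tgt a b⟩
    haveI : Epi f.τ₁ := inferInstanceAs (Epi (τ (-1) 1 rfl).hom)
    haveI : IsIso f.τ₂ := inferInstanceAs (IsIso (τ 0 0 rfl).hom)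
    haveI := ShortComplex.quasiIso_of_epi_of_isIso_of_mono f
    exact ⟨ShortComplex.homologyMapIso (D.isoSc' (-1) 0 1 (by simp) (by simp)) ≪≫
      asIso (ShortComplex.homologyMap f) ≪≫
      (ShortComplex.homologyMapIso (C.isoSc' 1 0 0 (by simp) (by simp))).symm ≪≫ e⟩

/-- **Balance of Tor.** -/
theorem nonempty_tor_symm (M N : ModuleCat.{u} A) (n : ℕ) :
    Nonempty (((CategoryTheory.Tor (ModuleCat.{u} A) n).obj M).obj N ≅
      ((CategoryTheory.Tor (ModuleCat.{u} A) n).obj N).obj M) := by
  let P := projectiveResolution M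
  let Q := projectiveResolution N
  obtain ⟨a⟩ := nonempty_tensorCx_homology_iso N P n
  obtain ⟨b⟩ := nonempty_tensorCx_homology_iso M Q n
  haveI : QuasiIso P.π' := inferInstance
  haveI : QuasiIso Q.π' := inferInstance
  haveI := GrothLib.KF.quasiIso_tensor_map_of_isKFlat Q.π' P.cochainComplex (GrothLib.KF.isKFlat_cochainComplex P)
  haveI := GrothLib.KF.quasiIso_tensor_map_of_isKFlat P.π' Q.cochainComplex (GrothLib.KF.isKFlat_cochainComplex Q)
  let i : ℤ := -(n : ℤ)
  let H := HomologicalComplex.homologyFunctor (ModuleCat.{u} A) (ComplexShape.up ℤ) i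
  exact ⟨b.symm ≪≫ H.mapIso (GrothLib.KF.singleIso Q.cochainComplex M) ≪≫
    (isoOfQuasiIsoAt (((GrothLib.KF.tensorCx (R := A)).obj Q.cochainComplex).map P.π') i).symm ≪≫
    H.mapIso (GrothLib.KF.tensorCxSymm P.cochainComplex Q.cochainComplex) ≪≫
    isoOfQuasiIsoAt (((GrothLib.KF.tensorCx (R := A)).obj P.cochainComplex).map Q.π') i ≪≫
    (H.mapIso (GrothLib.KF.singleIso P.cochainComplex N)).symm ≪≫ a⟩

variable {B : Type u} [CommRing B] (φ : A →+* B)

/-- Base change of `Tor` along a resolution which stays exact after extension of scalars. -/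
theorem nonempty_tor_restrict_iso {Q : ModuleCat.{u} A} (R : ProjectiveResolution Q)
    (h : ∀ q : ℕ, (((ModuleCat.extendScalars.{u, u, u} φ).mapHomologicalComplex (ComplexShape.down ℕ)).obj
      R.complex).ExactAt (q + 1)) (P : ModuleCat.{u} B) (n : ℕ) :
    Nonempty ((ModuleCat.restrictScalars φ).obj
        (((CategoryTheory.Tor (ModuleCat.{u} B) n).obj P).obj ((ModuleCat.extendScalars.{u, u, u} φ).obj Q)) ≅
      ((CategoryTheory.Tor (ModuleCat.{u} A) n).obj ((ModuleCat.restrictScalars φ).obj P)).obj Q) := by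
  let E := ModuleCat.extendScalars.{u, u, u} φ
  have : PreservesColimitsOfSize.{0, 0} E :=
    (ModuleCat.extendRestrictScalarsAdj φ).leftAdjoint_preservesColimits
  have : PreservesFiniteColimits E := PreservesColimitsOfSize.preservesFiniteColimits.{0, 0} E
  have : E.Additive := (ModuleCat.extendRestrictScalarsAdj φ).left_adjoint_additive
  have : E.PreservesProjectiveObjects :=
    Functor.preservesProjectiveObjects_of_adjunction_of_preservesEpimorphisms (ModuleCat.extendRestrictScalarsAdj φ)
  let R' : ProjectiveResolution (E.obj Q) :=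
    { complex := (E.mapHomologicalComplex _).obj R.complex
      projective := fun m => Functor.PreservesProjectiveObjects.projective_obj (F := E) (R.projective m)
      π := (E.mapHomologicalComplex _).map R.π ≫ (HomologicalComplex.singleMapHomologicalComplex _ _ _).hom.app _
      quasiIso := by
        haveI : QuasiIso ((E.mapHomologicalComplex (ComplexShape.down ℕ)).map R.π) := by
          refine ⟨fun m => ?_⟩
          cases m with
          | zero =>
            rw [ChainComplex.quasiIsoAt₀_iff, ShortComplex.quasiIso_iff_of_zeros']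
            · let S := ShortComplex.mk (R.complex.d 1 0) (R.π.f 0) R.complex_d_comp_π_f_zero
              haveI : E.PreservesEpimorphisms :=
                Functor.preservesEpimorphisms_of_adjunction (ModuleCat.extendRestrictScalarsAdj φ)
              haveI : Epi S.g := inferInstanceAs (Epi (R.π.f 0))
              exact (ShortComplex.exact_and_epi_g_iff_of_iso (S₂ := S.map E) (Iso.refl _)).2
                ⟨R.exact₀.map_of_epi_of_preservesCokernel E inferInstance inferInstance, inferInstanceAs (Epi (E.map (R.π.f 0)))⟩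
            · exact (congrArg E.map (R.complex.shape 0 0 (by simp))).trans (E.map_zero _ _)
            · exact E.map_zero _ _
            · exact E.map_zero _ _
          | succ p =>
            rw [quasiIsoAt_iff_exactAt']
            · exact h p
            · exact (ChainComplex.exactAt_succ_single_obj (E.obj Q) p).of_iso
                ((HomologicalComplex.singleMapHomologicalComplex E (ComplexShape.down ℕ) 0).app Q).symm
        infer_instance }
  let F := tensorLeft ((ModuleCat.restrictScalars φ).obj P)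
  let G := tensorLeft P
  let r := ModuleCat.restrictScalars.{u} φ
  let K := (G.mapHomologicalComplex (ComplexShape.down ℕ)).obj R'.complex
  let e₁ : r.obj (((CategoryTheory.Tor (ModuleCat.{u} B) n).obj P).obj (E.obj Q)) ≅ r.obj (K.homology n) :=
    r.mapIso (R'.isoLeftDerivedObj G n)
  let e₂ : r.obj (K.homology n) ≅ ((r.mapHomologicalComplex (ComplexShape.down ℕ)).obj K).homology n :=
    ((K.sc n).mapHomologyIso r).symm
  let e₃ : (r.mapHomologicalComplex (ComplexShape.down ℕ)).obj K ≅
      (F.mapHomologicalComplex (ComplexShape.down ℕ)).obj R.complex :=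
    HomologicalComplex.Hom.isoOfComponents (fun i => GrothLib.KF.restrictTensorExtendIso φ P (R.complex.X i))
      (fun i j _ => (GrothLib.KF.restrictTensorExtendIso_natural₂ φ P (R.complex.d i j)).symm)
  exact ⟨e₁ ≪≫ e₂ ≪≫ (HomologicalComplex.homologyFunctor _ _ n).mapIso e₃ ≪≫ (R.isoLeftDerivedObj F n).symm⟩

end GrothLib.HTor22
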