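import Groth.Agent.Lib.HTor22.TorIso
import Mathlib.Algebra.Category.ModuleCat.Descent

/-!
# Semilinear comparisons of Tor
-/

set_option autoImplicit false
set_option linter.style.haveILetI false
universe u

open CategoryTheory CategoryTheory.Limits MonoidalCategory HomologicalComplex TensorProduct

attribute [local instance] HasDerivedCategory.standard

namespace GrothLib.HTor22

variable {A A' : Type u} [CommRing A] [CommRing A'] [Algebra A A']

/-- An isomorphism with a restriction of scalars is a semilinear bijection. -/
theorem exists_semilinear {T : ModuleCat.{u} A} {T' : ModuleCat.{u} A'}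
    (i : T ≅ (ModuleCat.restrictScalars (algebraMap A A')).obj T') :
    ∃ φ : T →ₛₗ[algebraMap A A'] T', Function.Bijective φ :=
  ⟨{ toFun := fun x => i.hom x
     map_add' := fun x y => map_add i.hom.hom x y
     map_smul' := fun a x => map_smul i.hom.hom a x }, i.toLinearEquiv.bijective⟩

/-- A module over the algebra, restricted. -/
noncomputable def restrictIso (P : Type u) [AddCommGroup P] [Module A' P] [Module A P] [IsScalarTower A A' P] :
    (ModuleCat.restrictScalars (algebraMap A A')).obj (ModuleCat.of A' P) ≅ ModuleCat.of A P :=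
  LinearEquiv.toModuleIso
    ({ toFun := fun x => x, invFun := fun x => x, map_add' := fun _ _ => rfl,
       map_smul' := fun a x => (algebraMap_smul A' a x).symm, left_inv := fun _ => rfl,
       right_inv := fun _ => rfl } :
      P ≃ₗ[A] (ModuleCat.restrictScalars (algebraMap A A')).obj (ModuleCat.of A' P)).symm

/-- Extension of scalars is the tensor product. -/
theorem nonempty_extend_iso (Q : Type u) [AddCommGroup Q] [Module A Q] :
    Nonempty ((ModuleCat.extendScalars.{u, u, u} (algebraMap A A')).obj (ModuleCat.of A Q) ≅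
      ModuleCat.of A' (A' ⊗[A] Q)) := by
  have aux : ∀ (φ : A →+* A'), letI := φ.toAlgebra
      Nonempty ((ModuleCat.extendScalars.{u, u, u} φ).obj (ModuleCat.of A Q) ≅ ModuleCat.of A' (A' ⊗[A] Q)) :=
    fun φ => ⟨Iso.refl _⟩
  have h := aux (algebraMap A A')
  rw [toAlgebra_algebraMap] at h
  exact h

/-- **Tor and base change along a resolution staying exact.** -/
theorem exists_semilinear_tor (P' : Type u) [AddCommGroup P'] [Module A' P'] [Module A P'] [IsScalarTower A A' P']
    (Q : Type u) [AddCommGroup Q] [Module A Q] (R : ProjectiveResolution (ModuleCat.of A Q))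
    (h : ∀ q : ℕ, (((ModuleCat.extendScalars.{u, u, u} (algebraMap A A')).mapHomologicalComplex
      (ComplexShape.down ℕ)).obj R.complex).ExactAt (q + 1)) (n : ℕ) :
    Nonempty (ModuleCat.of A (DRing.Tor A n P' Q) ≅ (ModuleCat.restrictScalars (algebraMap A A')).obj
      (ModuleCat.of A' (DRing.Tor A' n P' (A' ⊗[A] Q)))) := by
  obtain ⟨e⟩ := nonempty_tor_restrict_iso (algebraMap A A') R h (ModuleCat.of A' P') n
  obtain ⟨x⟩ := nonempty_extend_iso (A := A) (A' := A') Q
  exact ⟨(((CategoryTheory.Tor (ModuleCat.{u} A) n).mapIso (restrictIso (A := A) (A' := A') P').symm).app (ModuleCat.of A Q)) ≪≫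
    e.symm ≪≫ (ModuleCat.restrictScalars _).mapIso
      (((CategoryTheory.Tor (ModuleCat.{u} A') n).obj (ModuleCat.of A' P')).mapIso x)⟩

theorem exists_semilinear_tor_of_flat [Module.Flat A A'] (P' : Type u) [AddCommGroup P'] [Module A' P'] [Module A P']
    [IsScalarTower A A' P'] (Q : Type u) [AddCommGroup Q] [Module A Q] (n : ℕ) :
    Nonempty (ModuleCat.of A (DRing.Tor A n P' Q) ≅ (ModuleCat.restrictScalars (algebraMap A A')).obj
      (ModuleCat.of A' (DRing.Tor A' n P' (A' ⊗[A] Q)))) := by
  let E := ModuleCat.extendScalars.{u, u, u} (algebraMap A A')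
  have : PreservesFiniteLimits E := ModuleCat.preservesFiniteLimits_extendScalars_of_flat
    (by rwa [RingHom.Flat, toAlgebra_algebraMap])
  have : PreservesColimitsOfSize.{0, 0} E :=
    (ModuleCat.extendRestrictScalarsAdj (algebraMap A A')).leftAdjoint_preservesColimits
  have : PreservesFiniteColimits E := PreservesColimitsOfSize.preservesFiniteColimits.{0, 0} E
  have : E.Additive := (ModuleCat.extendRestrictScalarsAdj (algebraMap A A')).left_adjoint_additive
  let R := projectiveResolution (ModuleCat.of A Q)
  exact exists_semilinear_tor P' Q R (fun q => (R.complex_exactAt_succ q).map E) n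

/-- Vanishing of `Tor` keeps the resolution exact. -/
theorem exactAt_extend_of_tor_vanishing {Q : Type u} [AddCommGroup Q] [Module A Q]
    (R : ProjectiveResolution (ModuleCat.of A Q))
    (hQ : ∀ q : ℕ, 0 < q → Subsingleton (DRing.Tor A q Q A')) (q : ℕ) :
    (((ModuleCat.extendScalars.{u, u, u} (algebraMap A A')).mapHomologicalComplex
      (ComplexShape.down ℕ)).obj R.complex).ExactAt (q + 1) := by
  let E := ModuleCat.extendScalars.{u, u, u} (algebraMap A A')
  let r := ModuleCat.restrictScalars.{u} (algebraMap A A')
  let F := tensorLeft (ModuleCat.of A A')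
  let i : E ⋙ r ≅ F := NatIso.ofComponents
    (fun M => (r.mapIso (λ_ (E.obj M)).symm) ≪≫ GrothLib.KF.restrictTensorExtendIso (algebraMap A A') (𝟙_ (ModuleCat.{u} A')) M ≪≫
      whiskerRightIso (restrictIso A') M)
    (fun {M N} g => by
      simp only [Functor.comp_map, Iso.trans_hom, Functor.mapIso_hom, whiskerRightIso_hom, Category.assoc, Iso.symm_hom]
      rw [← Category.assoc (r.map (E.map g)), ← r.map_comp, leftUnitor_inv_naturality, r.map_comp]
      simp only [Category.assoc]
      congr 1
      rw [← Category.assoc, GrothLib.KF.restrictTensorExtendIso_natural₂, Category.assoc]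
      congr 1
      exact whisker_exchange _ _)
  obtain ⟨s⟩ := nonempty_tor_symm (ModuleCat.of A A') (ModuleCat.of A Q) (q + 1)
  haveI := hQ (q + 1) (Nat.succ_pos q)
  let K := (F.mapHomologicalComplex (ComplexShape.down ℕ)).obj R.complex
  have hK : IsZero (K.homology (q + 1)) :=
    (ModuleCat.isZero_of_subsingleton _).of_iso ((R.isoLeftDerivedObj F (q + 1)).symm ≪≫ s)
  let e : ((r.mapHomologicalComplex (ComplexShape.down ℕ)).obj ((E.mapHomologicalComplex (ComplexShape.down ℕ)).obj
      R.complex)) ≅ K :=
    HomologicalComplex.Hom.isoOfComponents (fun m => i.app (R.complex.X m))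
      (fun m m' _ => (i.hom.naturality (R.complex.d m m')).symm)
  have h := ((exactAt_iff_isZero_homology K (q + 1)).2 hK).of_iso e.symm
  haveI : r.Additive := inferInstance
  exact (ShortComplex.exact_map_iff_of_faithful _ r).1 h

end GrothLib.HTor22
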