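import Groth.Agent.Lib.HTor22.ZeroDiff
import Groth.Agent.Lib.DCxKFlat.Resolution
import Groth.Agent.Lib.DCxKFlat.Balance

/-!
# Covers of bounded above complexes by complexes with free homology
-/

set_option autoImplicit false
set_option linter.style.haveILetI false
universe u

open CategoryTheory CategoryTheory.Limits MonoidalCategory HomologicalComplex
  CochainComplex.HomComplex

attribute [local instance] HasDerivedCategory.standard

namespace GrothLib.HTor22

variable {A : Type u} [CommRing A] (G : DRing.Cx A)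

/-- Free covers of the cycles, without the zero element. -/
noncomputable def cycTerm (n : ℤ) : ModuleCat.{u} A := ModuleCat.of A ({z : G.cycles n // z ≠ 0} →₀ A)

/-- The covering map of the cycles. -/
noncomputable def cycTermπ (n : ℤ) : cycTerm G n ⟶ G.cycles n :=
  ModuleCat.ofHom (Finsupp.linearCombination A fun z : {z : G.cycles n // z ≠ 0} => z.1)

theorem cycTermπ_surjective (n : ℤ) : Function.Surjective (cycTermπ G n) := fun z => by
  by_cases hz : z = 0
  · exact ⟨0, by rw [map_zero, hz]⟩
  · exact ⟨Finsupp.single ⟨z, hz⟩ 1, by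
      change Finsupp.linearCombination A (fun z : {z : G.cycles n // z ≠ 0} => z.1) (Finsupp.single ⟨z, hz⟩ 1) = z
      simp⟩

/-- Free covers of the elements that are not cycles. -/
noncomputable def offTerm (n : ℤ) : ModuleCat.{u} A :=
  ModuleCat.of A ({x : G.X (n - 1) // G.d (n - 1) n x ≠ 0} →₀ A)

/-- The covering map. -/
noncomputable def offTermπ (n : ℤ) : offTerm G n ⟶ G.X (n - 1) :=
  ModuleCat.ofHom (Finsupp.linearCombination A fun x : {x : G.X (n - 1) // G.d (n - 1) n x ≠ 0} => x.1)

/-- The zero differential part. -/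
noncomputable abbrev cycPart : DRing.Cx A := GrothLib.KF.zeroCx (cycTerm G)

/-- The map on the zero differential part. -/
noncomputable def cycPartMap : cycPart G ⟶ G where
  f n := cycTermπ G n ≫ G.iCycles n
  comm' i j _ := ((Category.assoc _ _ _).trans ((congrArg (_ ≫ ·) (G.iCycles_d i j)).trans comp_zero)).trans
    zero_comp.symm

/-- Covers of the elements that are not cycles, as a cochain. -/
noncomputable def offCochain : Cochain (GrothLib.KF.zeroCx (offTerm G)) G (-1) :=
  GrothLib.KF.zeroCxCochain (offTermπ G)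

/-- Its coboundary. -/
noncomputable def offMap : GrothLib.KF.zeroCx (offTerm G) ⟶ G :=
  Cocycle.homOf (Cocycle.mk (δ (-1) 0 (offCochain G)) 1 rfl (CochainComplex.HomComplex.δ_δ _ _ _ _))

/-- The disks. -/
noncomputable abbrev disk : DRing.Cx A := CochainComplex.mappingCone (𝟙 (GrothLib.KF.zeroCx (offTerm G)))

/-- The map on the disks. -/
noncomputable def diskMap : disk G ⟶ G :=
  CochainComplex.mappingCone.desc _ (offCochain G) (offMap G) (by simp [offMap])

/-- The cover. -/
noncomputable def cover : DRing.Cx A := cycPart G ⊞ disk G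

/-- The covering map. -/
noncomputable def coverMap : cover G ⟶ G := biprod.desc (cycPartMap G) (diskMap G)

theorem epi_coverMap_f (n : ℤ) : Epi ((coverMap G).f n) := by
  rw [ModuleCat.epi_iff_surjective]
  let r := LinearMap.range ((coverMap G).f n).hom
  have h1 : ∀ z : G.cycles n, G.iCycles n z ∈ r := fun z => by
    obtain ⟨t, rfl⟩ := cycTermπ_surjective G n z
    refine ⟨(biprod.inl : cycPart G ⟶ cycPart G ⊞ disk G).f n t, ?_⟩
    change ((biprod.inl : cycPart G ⟶ cycPart G ⊞ disk G).f n ≫ (coverMap G).f n) t = _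
    rw [← HomologicalComplex.comp_f, coverMap, biprod.inl_desc]
    rfl
  have h2 : ∀ x : G.X (n + 1 - 1), (G.XIsoOfEq (show n + 1 - 1 = n by omega)).hom x ∈ r := fun x => by
    by_cases hx : G.d (n + 1 - 1) (n + 1) x = 0
    · have key : ∀ (a : ℤ) (ha : a = n) (x : G.X a), G.d a (n + 1) x = 0 → (G.XIsoOfEq ha).hom x ∈ r := by
        rintro a rfl x hx
        obtain ⟨z, hz⟩ := exists_cycle G a x hx
        rw [HomologicalComplex.XIsoOfEq_rfl]
        change x ∈ r
        rw [← hz]
        exact h1 z
      exact key _ _ x hx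
    · let g : offTerm G (n + 1) := Finsupp.single (⟨x, hx⟩ : {x : G.X (n + 1 - 1) // G.d (n + 1 - 1) (n + 1) x ≠ 0}) 1
      let c : (GrothLib.KF.zeroCx (offTerm G)).X (n + 1) ⟶ (disk G).X n :=
        (CochainComplex.mappingCone.inl (𝟙 (GrothLib.KF.zeroCx (offTerm G)))).v (n + 1) n (by omega)
      refine ⟨(biprod.inr : disk G ⟶ cycPart G ⊞ disk G).f n (c g), ?_⟩
      change ((biprod.inr : disk G ⟶ cycPart G ⊞ disk G).f n ≫ (coverMap G).f n) (c g) = _
      rw [← HomologicalComplex.comp_f, coverMap, biprod.inr_desc]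
      have h : c ≫ (diskMap G).f n = offTermπ G (n + 1) ≫ (G.XIsoOfEq (show n + 1 - 1 = n by omega)).hom :=
        CochainComplex.mappingCone.inl_v_desc_f _ _ _ _ _ _ _
      refine (ConcreteCategory.congr_hom h g).trans ?_
      change (G.XIsoOfEq (show n + 1 - 1 = n by omega)).hom
        (Finsupp.linearCombination A (fun x : {x : G.X (n + 1 - 1) // G.d (n + 1 - 1) (n + 1) x ≠ 0} => x.1) g) = _
      simp [g]
  intro x
  obtain ⟨y, rfl⟩ := (ModuleCat.epi_iff_surjective (G.XIsoOfEq (show n + 1 - 1 = n by omega)).hom).1 inferInstance x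
  exact h2 y

theorem surjective_homologyMap_cycPartMap (n : ℤ) : Function.Surjective (homologyMap (cycPartMap G) n) := by
  intro c
  obtain ⟨z, rfl⟩ := homologyπ_surjective G n c
  obtain ⟨t, rfl⟩ := cycTermπ_surjective G n z
  obtain ⟨w, hw⟩ := exists_cycle (cycPart G) n t rfl
  refine ⟨(cycPart G).homologyπ n w, ?_⟩
  rw [homologyMap_π]
  refine congrArg _ (iCycles_injective G n ?_)
  rw [iCycles_cyclesMap, hw]
  rfl

theorem acyclic_disk : (disk G).Acyclic :=
  (DerCat.quasiIso_iff_acyclic_mappingCone (𝟙 (GrothLib.KF.zeroCx (offTerm G)))).1 inferInstance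

instance quasiIso_inl : QuasiIso (biprod.inl : cycPart G ⟶ cycPart G ⊞ disk G) := by
  let σ : (ShortComplex.mk (biprod.inr : disk G ⟶ cycPart G ⊞ _) biprod.fst biprod.inr_fst).Splitting :=
    { r := biprod.snd, s := biprod.inl, f_r := biprod.inr_snd, s_g := biprod.inl_fst
      id := (add_comm _ _).trans biprod.total }
  haveI : QuasiIso (biprod.fst : cycPart G ⊞ disk G ⟶ cycPart G) :=
    GrothLib.KF.quasiIso_g_of_acyclic σ.shortExact (acyclic_disk G)
  haveI : QuasiIso ((biprod.inl : cycPart G ⟶ cycPart G ⊞ disk G) ≫ biprod.fst) := by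
    rw [biprod.inl_fst]; infer_instance
  exact quasiIso_of_comp_right _ (biprod.fst : cycPart G ⊞ disk G ⟶ cycPart G)

/-- The inclusion of the zero differential part. -/
noncomputable abbrev coverInl : cycPart G ⟶ cover G := biprod.inl

theorem surjective_homologyMap_coverMap (n : ℤ) : Function.Surjective (homologyMap (coverMap G) n) := by
  intro c
  obtain ⟨t, ht⟩ := surjective_homologyMap_cycPartMap G n c
  refine ⟨homologyMap (coverInl G) n t, ?_⟩
  change (homologyMap (coverInl G) n ≫ homologyMap (coverMap G) n) t = c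
  rw [← homologyMap_comp, show coverInl G ≫ coverMap G = cycPartMap G from biprod.inl_desc _ _]
  exact ht

theorem flat_cycTerm (n : ℤ) : Module.Flat A (cycTerm G n) :=
  inferInstanceAs (Module.Flat A ({z : G.cycles n // z ≠ 0} →₀ A))

/-- The homology of the cover. -/
noncomputable def coverHomologyEquiv (n : ℤ) : cycTerm G n ≃ₗ[A] (cover G).homology n :=
  (((LinearEquiv.ofBijective ((cycPart G).iCycles n).hom (bijective_iCycles (M := cycPart G) (fun _ _ => rfl) n)).symm).trans
    (LinearEquiv.ofBijective ((cycPart G).homologyπ n).hom (bijective_homologyπ (M := cycPart G) (fun _ _ => rfl) n))).trans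
      (haveI : QuasiIso (coverInl G) := quasiIso_inl G
       isoOfQuasiIsoAt (coverInl G) n).toLinearEquiv

theorem projective_homology_cover (n : ℤ) : Module.Projective A ((cover G).homology n) := by
  haveI : Module.Projective A (cycTerm G n) :=
    inferInstanceAs (Module.Projective A ({z : G.cycles n // z ≠ 0} →₀ A))
  exact Module.Projective.of_equiv (coverHomologyEquiv G n)

/-- **Künneth against a cover.** -/
theorem kunneth_bijective_cover (L : DRing.Cx A) (hL : DRing.TermwiseFlat L) (bL : ∃ b, DRing.VanishesAbove L b)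
    (n : ℤ) : Function.Bijective (kunneth L (cover G) n) := by
  obtain ⟨b, hb⟩ := bL
  haveI : QuasiIso (coverInl G) := quasiIso_inl G
  haveI : QuasiIso (tmap L (coverInl G)) :=
    GrothLib.KF.quasiIso_tensor_map_of_isKFlat (coverInl G) L (GrothLib.KF.isKFlat_of_vanishesAbove hb hL)
  let g := DirectSum.lmap fun ij : HTor.Antidiag n =>
    LinearMap.lTensor (L.homology ij.1.1) (homologyMap (coverInl G) ij.1.2).hom
  have hg : Function.Bijective g := ⟨(DirectSum.lmap_injective _).2 fun ij =>
      (LinearEquiv.lTensor (L.homology ij.1.1) (isoOfQuasiIsoAt (coverInl G) ij.1.2).toLinearEquiv).injective,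
    (DirectSum.lmap_surjective _).2 fun ij =>
      (LinearEquiv.lTensor (L.homology ij.1.1) (isoOfQuasiIsoAt (coverInl G) ij.1.2).toLinearEquiv).surjective⟩
  have h : kunneth L (cover G) n ∘ g = homologyMap (tmap L (coverInl G)) n ∘ kunneth L (cycPart G) n :=
    funext fun x => (homologyMap_kunneth n (coverInl G) x).symm
  refine (Function.Bijective.of_comp_iff _ hg).1 ?_
  rw [h]
  exact ((ConcreteCategory.isIso_iff_bijective _).1 inferInstance).comp
    (kunneth_bijective_of_d_eq_zero (M := cycPart G) (fun _ _ => rfl) (flat_cycTerm G) n)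

variable {G}

theorem vanishesAbove_cover {b : ℤ} (hb : DRing.VanishesAbove G b) : DRing.VanishesAbove (cover G) b := by
  intro n hn
  have h0 : ∀ m, b < m → ∀ x : G.X m, x = 0 := fun m hm x =>
    (ModuleCat.subsingleton_of_isZero (hb m hm)).elim x 0
  have hc : IsZero ((cycPart G).X n) := by
    haveI : IsEmpty {z : G.cycles n // z ≠ 0} :=
      ⟨fun z => z.2 (iCycles_injective G n ((h0 n hn _).trans (map_zero _).symm))⟩
    exact @ModuleCat.isZero_of_subsingleton A _ (cycTerm G n)
      (inferInstanceAs (Subsingleton ({z : G.cycles n // z ≠ 0} →₀ A)))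
  have ho : ∀ m, b < m → IsZero ((GrothLib.KF.zeroCx (offTerm G)).X m) := fun m hm => by
    haveI : IsEmpty {x : G.X (m - 1) // G.d (m - 1) m x ≠ 0} := ⟨fun x => x.2 (h0 m hm _)⟩
    exact @ModuleCat.isZero_of_subsingleton A _ (offTerm G m)
      (inferInstanceAs (Subsingleton ({x : G.X (m - 1) // G.d (m - 1) m x ≠ 0} →₀ A)))
  have hd : IsZero ((disk G).X n) := by
    rw [IsZero.iff_id_eq_zero]
    refine CochainComplex.mappingCone.ext_to _ n (n + 1) rfl ?_ ?_
    · exact (ho (n + 1) (by omega)).eq_of_tgt _ _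
    · exact (ho n hn).eq_of_tgt _ _
  rw [IsZero.iff_id_eq_zero]
  change 𝟙 ((cycPart G ⊞ disk G).X n) = 0
  rw [← HomologicalComplex.id_f, ← biprod.total, HomologicalComplex.add_f_apply, HomologicalComplex.comp_f,
    HomologicalComplex.comp_f, hc.eq_of_tgt ((biprod.fst : cycPart G ⊞ disk G ⟶ _).f n) 0,
    hd.eq_of_tgt ((biprod.snd : cycPart G ⊞ disk G ⟶ _).f n) 0, zero_comp, zero_comp, add_zero]

end GrothLib.HTor22
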