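import Groth.Agent.Lib.DCxKFlat.TensorSymm
import Groth.Prelude.Def_HTor

/-!
# Elements of a tensor product of complexes and the Künneth map
-/

set_option autoImplicit false
universe u

open CategoryTheory CategoryTheory.Limits MonoidalCategory HomologicalComplex TensorProduct

attribute [local instance] HasDerivedCategory.standard

namespace GrothLib.HTor22

variable {A : Type u} [CommRing A]

/-- A summand of the tensor product, as a linear map. -/
noncomputable def pureLin (L M : DRing.Cx A) (i j n : ℤ) (h : i + j = n) :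
    TensorProduct A (L.X i) (M.X j) →ₗ[A] (HTor.tensorCx L M).X n :=
  (ιTensorObj L M i j n h).hom

/-- A pure element. -/
noncomputable abbrev pure (L M : DRing.Cx A) (i j n : ℤ) (h : i + j = n) (x : L.X i) (y : M.X j) :
    (HTor.tensorCx L M).X n :=
  pureLin L M i j n h (x ⊗ₜ[A] y)

theorem hom_ext_pure {L M : DRing.Cx A} {n : ℤ} {P : Type u} [AddCommGroup P] [Module A P]
    {f g : (HTor.tensorCx L M).X n →ₗ[A] P}
    (H : ∀ (i j : ℤ) (h : i + j = n) (t : TensorProduct A (L.X i) (M.X j)),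
      f (pureLin L M i j n h t) = g (pureLin L M i j n h t)) : f = g := by
  have e : (ModuleCat.ofHom f : (HTor.tensorCx L M).X n ⟶ ModuleCat.of A P) = ModuleCat.ofHom g :=
    mapBifunctor.hom_ext fun i j h => ModuleCat.hom_ext (LinearMap.ext fun t => H i j h t)
  exact congrArg ModuleCat.Hom.hom e

theorem pureLin_d (L M : DRing.Cx A) (i j n : ℤ) (h : i + j = n) (t : TensorProduct A (L.X i) (M.X j)) :
    (HTor.tensorCx L M).d n (n + 1) (pureLin L M i j n h t) =
      (ComplexShape.ε₁ (ComplexShape.up ℤ) (ComplexShape.up ℤ) (ComplexShape.up ℤ) (i, j) : ℤ) •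
          pureLin L M (i + 1) j (n + 1) (by omega) (LinearMap.rTensor (M.X j) (L.d i (i + 1)).hom t) +
        (ComplexShape.ε₂ (ComplexShape.up ℤ) (ComplexShape.up ℤ) (ComplexShape.up ℤ) (i, j) : ℤ) •
          pureLin L M i (j + 1) (n + 1) (by omega) (LinearMap.lTensor (L.X i) (M.d j (j + 1)).hom t) := by
  have e : ιTensorObj L M i j n h ≫ (HTor.tensorCx L M).d n (n + 1) =
      (ComplexShape.ε₁ (ComplexShape.up ℤ) (ComplexShape.up ℤ) (ComplexShape.up ℤ) (i, j) •
          (((curriedTensor (ModuleCat.{u} A)).map (L.d i (i + 1))).app (M.X j) ≫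
            ιTensorObj L M (i + 1) j (n + 1) (by omega))) +
        ComplexShape.ε₂ (ComplexShape.up ℤ) (ComplexShape.up ℤ) (ComplexShape.up ℤ) (i, j) •
          (((curriedTensor (ModuleCat.{u} A)).obj (L.X i)).map (M.d j (j + 1)) ≫
            ιTensorObj L M i (j + 1) (n + 1) (by omega)) := by
    rw [mapBifunctor.d_eq, Preadditive.comp_add, mapBifunctor.ι_D₁, mapBifunctor.ι_D₂,
      mapBifunctor.d₁_eq _ _ _ _ (show (ComplexShape.up ℤ).Rel i (i + 1) from rfl) j (n + 1)
        (show i + 1 + j = n + 1 by omega),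
      mapBifunctor.d₂_eq _ _ _ _ i (show (ComplexShape.up ℤ).Rel j (j + 1) from rfl) (n + 1)
        (show i + (j + 1) = n + 1 by omega)]
  exact (ConcreteCategory.congr_hom e t).trans rfl

theorem pure_d (L M : DRing.Cx A) (i j n : ℤ) (h : i + j = n) (x : L.X i) (y : M.X j) :
    (HTor.tensorCx L M).d n (n + 1) (pure L M i j n h x y) =
      (ComplexShape.ε₁ (ComplexShape.up ℤ) (ComplexShape.up ℤ) (ComplexShape.up ℤ) (i, j) : ℤ) •
          pure L M (i + 1) j (n + 1) (by omega) (L.d i (i + 1) x) y +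
        (ComplexShape.ε₂ (ComplexShape.up ℤ) (ComplexShape.up ℤ) (ComplexShape.up ℤ) (i, j) : ℤ) •
          pure L M i (j + 1) (n + 1) (by omega) x (M.d j (j + 1) y) :=
  pureLin_d L M i j n h (x ⊗ₜ[A] y)

theorem smul_smul_sign (ε : ℤˣ) {N : Type*} [AddCommGroup N] (x : N) : (ε : ℤ) • (ε : ℤ) • x = x := by
  rcases Int.units_eq_one_or ε with e | e <;> simp [e]

theorem d_cycle {K : DRing.Cx A} (i : ℤ) (z : K.cycles i) (k : ℤ) : K.d i k (K.iCycles i z) = 0 :=
  ConcreteCategory.congr_hom (K.iCycles_d i k) z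

theorem exists_cycle (K : DRing.Cx A) (i : ℤ) (x : K.X i) (hx : K.d i (i + 1) x = 0) :
    ∃ z : K.cycles i, K.iCycles i z = x := by
  let k : ModuleCat.of A A ⟶ K.X i := ModuleCat.ofHom (LinearMap.toSpanSingleton A (K.X i) x)
  have hk : k ≫ K.d i (i + 1) = 0 := ModuleCat.hom_ext (LinearMap.ext_ring (by
    change K.d i (i + 1) ((1 : A) • x) = 0
    rw [one_smul, hx]))
  exact ⟨K.liftCycles k (i + 1) (by simp) hk (1 : A),
    (ConcreteCategory.congr_hom (K.liftCycles_i k (i + 1) (by simp) hk) (1 : A)).trans (one_smul A x)⟩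

theorem homologyπ_surjective (K : DRing.Cx A) (i : ℤ) : Function.Surjective (K.homologyπ i) :=
  (ModuleCat.epi_iff_surjective _).1 inferInstance

theorem iCycles_injective (K : DRing.Cx A) (i : ℤ) : Function.Injective (K.iCycles i) :=
  (ModuleCat.mono_iff_injective _).1 inferInstance

theorem homologyπ_eq_zero_iff (K : DRing.Cx A) (i : ℤ) (z : K.cycles i) :
    K.homologyπ i z = 0 ↔ ∃ x : K.X (i - 1), K.d (i - 1) i x = K.iCycles i z := by
  let c : CokernelCofork (K.toCycles (i - 1) i) := CokernelCofork.ofπ (K.homologyπ i) (K.toCycles_comp_homologyπ _ _)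
  have hc : IsColimit c := K.homologyIsCokernel (i - 1) i (by simp)
  have hex : (ShortComplex.mk (K.toCycles (i - 1) i) (K.homologyπ i) (K.toCycles_comp_homologyπ _ _)).Exact :=
    ShortComplex.exact_of_g_is_cokernel _ hc
  constructor
  · intro h
    obtain ⟨x, hx⟩ := (ShortComplex.moduleCat_exact_iff _).1 hex z h
    exact ⟨x, (ConcreteCategory.congr_hom (K.toCycles_i (i - 1) i) x).symm.trans (congrArg (K.iCycles i) hx)⟩
  · rintro ⟨x, hx⟩
    obtain rfl : K.toCycles (i - 1) i x = z :=
      iCycles_injective K i ((ConcreteCategory.congr_hom (K.toCycles_i (i - 1) i) x).trans hx)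
    exact ConcreteCategory.congr_hom (K.toCycles_comp_homologyπ (i - 1) i) x

theorem homologyMap_π {K K' : DRing.Cx A} (f : K ⟶ K') (i : ℤ) (z : K.cycles i) :
    homologyMap f i (K.homologyπ i z) = K'.homologyπ i (cyclesMap f i z) :=
  ConcreteCategory.congr_hom (homologyπ_naturality f i) z

theorem iCycles_cyclesMap {K K' : DRing.Cx A} (f : K ⟶ K') (i : ℤ) (z : K.cycles i) :
    K'.iCycles i (cyclesMap f i z) = f.f i (K.iCycles i z) :=
  ConcreteCategory.congr_hom (cyclesMap_i f i) z

variable (L M : DRing.Cx A) (i j n : ℤ) (h : i + j = n)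

/-- `Z^i ⊗ Z^j → (L ⊗ M)^n`. -/
noncomputable def cycPair : TensorProduct A (L.cycles i) (M.cycles j) →ₗ[A] (HTor.tensorCx L M).X n :=
  pureLin L M i j n h ∘ₗ TensorProduct.map (L.iCycles i).hom (M.iCycles j).hom

theorem d_cycPair (t : TensorProduct A (L.cycles i) (M.cycles j)) :
    (HTor.tensorCx L M).d n (n + 1) (cycPair L M i j n h t) = 0 := by
  induction t with
  | zero => rw [map_zero, map_zero]
  | tmul z z' =>
    change (HTor.tensorCx L M).d n (n + 1) (pure L M i j n h (L.iCycles i z) (M.iCycles j z')) = 0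
    rw [pure_d, d_cycle, d_cycle]
    simp [pure]
  | add a b ha hb => rw [map_add, map_add, ha, hb, add_zero]

/-- The class of a product of cycles. -/
noncomputable def cycProd : TensorProduct A (L.cycles i) (M.cycles j) →ₗ[A] (HTor.tensorCx L M).homology n :=
  ((HTor.tensorCx L M).liftCycles (A := ModuleCat.of A (TensorProduct A (L.cycles i) (M.cycles j)))
      (ModuleCat.ofHom (cycPair L M i j n h)) (n + 1) (by simp)
      (ModuleCat.hom_ext (LinearMap.ext (d_cycPair L M i j n h))) ≫
    (HTor.tensorCx L M).homologyπ n).hom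

theorem exists_cycle_cycProd (t : TensorProduct A (L.cycles i) (M.cycles j)) :
    ∃ w : (HTor.tensorCx L M).cycles n, (HTor.tensorCx L M).iCycles n w = cycPair L M i j n h t ∧
      cycProd L M i j n h t = (HTor.tensorCx L M).homologyπ n w :=
  ⟨_, ConcreteCategory.congr_hom ((HTor.tensorCx L M).liftCycles_i
    (A := ModuleCat.of A (TensorProduct A (L.cycles i) (M.cycles j))) (ModuleCat.ofHom (cycPair L M i j n h)) (n + 1)
    (by simp) (ModuleCat.hom_ext (LinearMap.ext (d_cycPair L M i j n h)))) t, rfl⟩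

theorem cycProd_eq_zero (t : TensorProduct A (L.cycles i) (M.cycles j)) (u : (HTor.tensorCx L M).X (n - 1))
    (hu : (HTor.tensorCx L M).d (n - 1) n u = cycPair L M i j n h t) : cycProd L M i j n h t = 0 := by
  obtain ⟨w, hw, e⟩ := exists_cycle_cycProd L M i j n h t
  rw [e]
  exact (homologyπ_eq_zero_iff _ n w).2 ⟨u, hu.trans hw.symm⟩

theorem cycProd_left_boundary (z : L.cycles i) (z' : M.cycles j) (hz : L.homologyπ i z = 0) :
    cycProd L M i j n h (z ⊗ₜ z') = 0 := by
  obtain ⟨x, hx⟩ := (homologyπ_eq_zero_iff L i z).1 hz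
  obtain ⟨i, rfl⟩ : ∃ k, i = k + 1 := ⟨i - 1, by omega⟩
  obtain ⟨n, rfl⟩ : ∃ k, n = k + 1 := ⟨n - 1, by omega⟩
  have key : ∀ (a : ℤ) (x : L.X a), a + 1 = i + 1 → L.d a (i + 1) x = L.iCycles (i + 1) z →
      cycProd L M (i + 1) j (n + 1) h (z ⊗ₜ z') = 0 := by
    intro a x₀ ha hx₀
    obtain rfl : a = i := by omega
    have hu : (HTor.tensorCx L M).d n (n + 1)
        ((ComplexShape.ε₁ (ComplexShape.up ℤ) (ComplexShape.up ℤ) (ComplexShape.up ℤ) (a, j) : ℤ) •
          pure L M a j n (by omega) x₀ (M.iCycles j z')) = cycPair L M (a + 1) j (n + 1) h (z ⊗ₜ z') := by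
      rw [map_zsmul, pure_d, d_cycle, hx₀]
      simp only [pure, tmul_zero, map_zero, smul_zero, add_zero]
      rw [smul_smul_sign]
      rfl
    obtain ⟨w, hw, e⟩ := exists_cycle_cycProd L M (a + 1) j (n + 1) h (z ⊗ₜ z')
    have hw' : (HTor.tensorCx L M).d n (n + 1) _ = (HTor.tensorCx L M).iCycles (n + 1) w := hu.trans hw.symm
    rw [e]
    refine (homologyπ_eq_zero_iff _ (n + 1) w).2 ?_
    rw [show n + 1 - 1 = n by omega]
    exact ⟨_, hw'⟩
  exact key _ x (by omega) hx

theorem cycProd_right_boundary (z : L.cycles i) (z' : M.cycles j) (hz : M.homologyπ j z' = 0) :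
    cycProd L M i j n h (z ⊗ₜ z') = 0 := by
  obtain ⟨y, hy⟩ := (homologyπ_eq_zero_iff M j z').1 hz
  obtain ⟨j, rfl⟩ : ∃ k, j = k + 1 := ⟨j - 1, by omega⟩
  obtain ⟨n, rfl⟩ : ∃ k, n = k + 1 := ⟨n - 1, by omega⟩
  have key : ∀ (a : ℤ) (y : M.X a), a + 1 = j + 1 → M.d a (j + 1) y = M.iCycles (j + 1) z' →
      cycProd L M i (j + 1) (n + 1) h (z ⊗ₜ z') = 0 := by
    intro a y₀ ha hy₀
    obtain rfl : a = j := by omega
    have hu : (HTor.tensorCx L M).d n (n + 1)
        ((ComplexShape.ε₂ (ComplexShape.up ℤ) (ComplexShape.up ℤ) (ComplexShape.up ℤ) (i, a) : ℤ) •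
          pure L M i a n (by omega) (L.iCycles i z) y₀) = cycPair L M i (a + 1) (n + 1) h (z ⊗ₜ z') := by
      rw [map_zsmul, pure_d, d_cycle, hy₀]
      simp only [pure, zero_tmul, map_zero, smul_zero, zero_add]
      rw [smul_smul_sign]
      rfl
    obtain ⟨w, hw, e⟩ := exists_cycle_cycProd L M i (a + 1) (n + 1) h (z ⊗ₜ z')
    have hw' : (HTor.tensorCx L M).d n (n + 1) _ = (HTor.tensorCx L M).iCycles (n + 1) w := hu.trans hw.symm
    rw [e]
    refine (homologyπ_eq_zero_iff _ (n + 1) w).2 ?_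
    rw [show n + 1 - 1 = n by omega]
    exact ⟨_, hw'⟩
  exact key _ y (by omega) hy

theorem exists_kunnethTerm :
    ∃ Φ : TensorProduct A (L.homology i) (M.homology j) →ₗ[A] (HTor.tensorCx L M).homology n,
      ∀ z z', Φ (L.homologyπ i z ⊗ₜ M.homologyπ j z') = cycProd L M i j n h (z ⊗ₜ z') := by
  let p := TensorProduct.map (L.homologyπ i).hom (M.homologyπ j).hom
  have hp : Function.Surjective p :=
    TensorProduct.map_surjective (homologyπ_surjective L i) (homologyπ_surjective M j)
  have hker : LinearMap.ker p ≤ LinearMap.ker (cycProd L M i j n h) := by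
    change LinearMap.ker (TensorProduct.map (L.homologyπ i).hom (M.homologyπ j).hom) ≤ _
    rw [TensorProduct.map_ker (LinearMap.exact_subtype_ker_map _) (homologyπ_surjective L i)
      (LinearMap.exact_subtype_ker_map _) (homologyπ_surjective M j), sup_le_iff]
    constructor
    · rintro _ ⟨t, rfl⟩
      induction t with
      | zero => rw [map_zero]; exact zero_mem _
      | tmul z z' => exact cycProd_right_boundary L M i j n h z z'.1 z'.2
      | add a b ha hb => rw [map_add]; exact add_mem ha hb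
    · rintro _ ⟨t, rfl⟩
      induction t with
      | zero => rw [map_zero]; exact zero_mem _
      | tmul z z' => exact cycProd_left_boundary L M i j n h z.1 z' z.2
      | add a b ha hb => rw [map_add]; exact add_mem ha hb
  refine ⟨(LinearMap.ker p).liftQ (cycProd L M i j n h) hker ∘ₗ (p.quotKerEquivOfSurjective hp).symm.toLinearMap,
    fun z z' => ?_⟩
  have hq : (p.quotKerEquivOfSurjective hp).symm (L.homologyπ i z ⊗ₜ M.homologyπ j z') =
      Submodule.Quotient.mk (z ⊗ₜ[A] z') :=
    (LinearEquiv.symm_apply_eq _).2 rfl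
  exact congrArg ((LinearMap.ker p).liftQ (cycProd L M i j n h) hker) hq

/-- One summand of the Künneth map. -/
noncomputable def kunnethTerm :
    TensorProduct A (L.homology i) (M.homology j) →ₗ[A] (HTor.tensorCx L M).homology n :=
  (exists_kunnethTerm L M i j n h).choose

theorem kunnethTerm_tmul (z : L.cycles i) (z' : M.cycles j) :
    kunnethTerm L M i j n h (L.homologyπ i z ⊗ₜ M.homologyπ j z') = cycProd L M i j n h (z ⊗ₜ z') :=
  (exists_kunnethTerm L M i j n h).choose_spec z z'

/-- The Künneth map. -/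
noncomputable def kunneth : HTor.KunnethSum L M n →ₗ[A] (HTor.tensorCx L M).homology n :=
  DirectSum.toModule A _ _ fun ij => kunnethTerm L M ij.1.1 ij.1.2 n ij.2

theorem kunneth_lof (ij : HTor.Antidiag n) (t : TensorProduct A (L.homology ij.1.1) (M.homology ij.1.2)) :
    kunneth L M n (DirectSum.lof A (HTor.Antidiag n) _ ij t) = kunnethTerm L M ij.1.1 ij.1.2 n ij.2 t :=
  DirectSum.toModule_lof A (φ := fun ij : HTor.Antidiag n => kunnethTerm L M ij.1.1 ij.1.2 n ij.2) ij t

theorem isKunnethMap_kunneth : HTor.IsKunnethMap L M n (kunneth L M n) := by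
  intro ij z z' w hw
  rw [kunneth_lof, kunnethTerm_tmul]
  obtain ⟨w', hw', e⟩ := exists_cycle_cycProd L M ij.1.1 ij.1.2 n ij.2 (z ⊗ₜ z')
  rw [e]
  exact congrArg _ (iCycles_injective _ n (hw'.trans hw.symm))

variable {L M}

/-- Functoriality of the tensor product in the second complex. -/
noncomputable abbrev tmap (L : DRing.Cx A) {M M' : DRing.Cx A} (f : M ⟶ M') :
    HTor.tensorCx L M ⟶ HTor.tensorCx L M' :=
  ((GrothLib.KF.tensorCx (R := A)).obj L).map f

theorem tmap_pureLin {M' : DRing.Cx A} (f : M ⟶ M') (t : TensorProduct A (L.X i) (M.X j)) :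
    (tmap L f).f n (pureLin L M i j n h t) = pureLin L M' i j n h (LinearMap.lTensor (L.X i) (f.f j).hom t) := by
  have e := ι_mapBifunctorMap (𝟙 L) f (curriedTensor (ModuleCat.{u} A)) (ComplexShape.up ℤ) i j n h
  rw [HomologicalComplex.id_f, CategoryTheory.Functor.map_id, NatTrans.id_app, Category.id_comp] at e
  exact ConcreteCategory.congr_hom e t

theorem homologyMap_kunnethTerm {M' : DRing.Cx A} (f : M ⟶ M')
    (t : TensorProduct A (L.homology i) (M.homology j)) :
    homologyMap (tmap L f) n (kunnethTerm L M i j n h t) =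
      kunnethTerm L M' i j n h (LinearMap.lTensor (L.homology i) (homologyMap f j).hom t) := by
  induction t with
  | zero => simp only [map_zero]
  | tmul a b =>
    obtain ⟨z, rfl⟩ := homologyπ_surjective L i a
    obtain ⟨z', rfl⟩ := homologyπ_surjective M j b
    rw [LinearMap.lTensor_tmul]
    change _ = kunnethTerm L M' i j n h (L.homologyπ i z ⊗ₜ homologyMap f j (M.homologyπ j z'))
    rw [kunnethTerm_tmul, homologyMap_π, kunnethTerm_tmul]
    obtain ⟨w, hw, e⟩ := exists_cycle_cycProd L M i j n h (z ⊗ₜ z')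
    obtain ⟨w', hw', e'⟩ := exists_cycle_cycProd L M' i j n h (z ⊗ₜ cyclesMap f j z')
    rw [e, e', homologyMap_π]
    refine congrArg _ (iCycles_injective _ n ?_)
    rw [iCycles_cyclesMap, hw, hw']
    change (tmap L f).f n (pureLin L M i j n h (L.iCycles i z ⊗ₜ M.iCycles j z')) =
      pureLin L M' i j n h (L.iCycles i z ⊗ₜ M'.iCycles j (cyclesMap f j z'))
    rw [tmap_pureLin, iCycles_cyclesMap]
    rfl
  | add a b ha hb => simp only [map_add, ha, hb]

/-- The Künneth map is natural. -/
theorem homologyMap_kunneth {M' : DRing.Cx A} (f : M ⟶ M') (x : HTor.KunnethSum L M n) :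
    homologyMap (tmap L f) n (kunneth L M n x) = kunneth L M' n
      (DirectSum.lmap (fun ij : HTor.Antidiag n => LinearMap.lTensor (L.homology ij.1.1) (homologyMap f ij.1.2).hom) x) := by
  induction x using DirectSum.induction_on with
  | zero => simp only [map_zero]
  | of ij t =>
    rw [← DirectSum.lof_eq_of A]
    rw [kunneth_lof, DirectSum.lmap_lof, kunneth_lof]
    exact homologyMap_kunnethTerm _ _ _ _ f t
  | add a b ha hb => simp only [map_add, ha, hb]

end GrothLib.HTor22
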