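import Groth.Agent.Lib.HTor22.Tensor

/-!
# The Künneth map against a complex of flat modules with zero differential
-/

set_option autoImplicit false
set_option linter.style.haveILetI false
universe u

open CategoryTheory CategoryTheory.Limits MonoidalCategory HomologicalComplex TensorProduct

attribute [local instance] HasDerivedCategory.standard

namespace GrothLib.HTor22

variable {A : Type u} [CommRing A]

/-- The terms of the tensor product as a direct sum. -/
abbrev Terms (L M : DRing.Cx A) (n : ℤ) : Type u :=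
  DirectSum (HTor.Antidiag n) fun ij => TensorProduct A (L.X ij.1.1) (M.X ij.1.2)

/-- The inverse of the decomposition. -/
noncomputable def ofTerms (L M : DRing.Cx A) (n : ℤ) : Terms L M n →ₗ[A] (HTor.tensorCx L M).X n :=
  DirectSum.toModule A _ _ fun ij => pureLin L M ij.1.1 ij.1.2 n ij.2

/-- The decomposition. -/
noncomputable def toTerms (L M : DRing.Cx A) (n : ℤ) : (HTor.tensorCx L M).X n →ₗ[A] Terms L M n :=
  (mapBifunctorDesc (K₁ := L) (K₂ := M) (F := curriedTensor (ModuleCat.{u} A)) (c := ComplexShape.up ℤ) (j := n)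
    (A := ModuleCat.of A (Terms L M n)) fun i j h =>
      ModuleCat.ofHom (DirectSum.lof A (HTor.Antidiag n) (fun ij => TensorProduct A (L.X ij.1.1) (M.X ij.1.2))
        ⟨(i, j), h⟩)).hom

theorem toTerms_pureLin (L M : DRing.Cx A) (i j n : ℤ) (h : i + j = n) (t : TensorProduct A (L.X i) (M.X j)) :
    toTerms L M n (pureLin L M i j n h t) = DirectSum.lof A (HTor.Antidiag n)
      (fun ij => TensorProduct A (L.X ij.1.1) (M.X ij.1.2)) ⟨(i, j), h⟩ t :=
  ConcreteCategory.congr_hom (ι_mapBifunctorDesc (K₁ := L) (K₂ := M) (F := curriedTensor (ModuleCat.{u} A))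
    (c := ComplexShape.up ℤ) (j := n) (A := ModuleCat.of A (Terms L M n)) (fun i j h =>
      ModuleCat.ofHom (DirectSum.lof A (HTor.Antidiag n) (fun ij => TensorProduct A (L.X ij.1.1) (M.X ij.1.2))
        ⟨(i, j), h⟩)) i j h) t

theorem ofTerms_lof (L M : DRing.Cx A) (n : ℤ) (ij : HTor.Antidiag n)
    (t : TensorProduct A (L.X ij.1.1) (M.X ij.1.2)) :
    ofTerms L M n (DirectSum.lof A (HTor.Antidiag n) _ ij t) = pureLin L M ij.1.1 ij.1.2 n ij.2 t :=
  DirectSum.toModule_lof A (φ := fun ij : HTor.Antidiag n => pureLin L M ij.1.1 ij.1.2 n ij.2) ij t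

theorem ofTerms_toTerms (L M : DRing.Cx A) (n : ℤ) (x : (HTor.tensorCx L M).X n) :
    ofTerms L M n (toTerms L M n x) = x :=
  LinearMap.congr_fun (hom_ext_pure (f := ofTerms L M n ∘ₗ toTerms L M n) (g := LinearMap.id) fun i j h t => by
    rw [LinearMap.comp_apply, toTerms_pureLin, ofTerms_lof, LinearMap.id_apply]) x

theorem toTerms_ofTerms (L M : DRing.Cx A) (n : ℤ) (u : Terms L M n) : toTerms L M n (ofTerms L M n u) = u := by
  induction u using DirectSum.induction_on with
  | zero => simp only [map_zero]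
  | of ij t => rw [← DirectSum.lof_eq_of A, ofTerms_lof, toTerms_pureLin]
  | add a b ha hb => simp only [map_add, ha, hb]

variable {L M : DRing.Cx A} (hM : ∀ a b, M.d a b = 0)

/-- Moving an index down. -/
def antidiagSucc (n : ℤ) (ij : HTor.Antidiag n) : HTor.Antidiag (n + 1) :=
  ⟨(ij.1.1 + 1, ij.1.2), by have := ij.2; omega⟩

theorem antidiagSucc_injective (n : ℤ) : Function.Injective (antidiagSucc n) := fun a b h => by
  have := congrArg (fun c => c.1) h
  refine Subtype.ext (Prod.ext ?_ ?_)
  · have := congrArg Prod.fst this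
    change a.1.1 + 1 = b.1.1 + 1 at this
    omega
  · exact (congrArg Prod.snd this :)

theorem antidiagSucc_surjective (n : ℤ) (ij : HTor.Antidiag (n + 1)) : ∃ a, antidiagSucc n a = ij :=
  ⟨⟨(ij.1.1 - 1, ij.1.2), by have := ij.2; omega⟩, Subtype.ext (Prod.ext (by simp [antidiagSucc]) rfl)⟩

include hM in
theorem toTerms_d_apply (n : ℤ) (x : (HTor.tensorCx L M).X n) (ij : HTor.Antidiag n) :
    toTerms L M (n + 1) ((HTor.tensorCx L M).d n (n + 1) x) (antidiagSucc n ij) =
      (ComplexShape.ε₁ (ComplexShape.up ℤ) (ComplexShape.up ℤ) (ComplexShape.up ℤ) (ij.1.1, ij.1.2) : ℤ) •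
        LinearMap.rTensor (M.X ij.1.2) (L.d ij.1.1 (ij.1.1 + 1)).hom (toTerms L M n x ij) := by
  classical
  obtain ⟨u, rfl⟩ : ∃ u, ofTerms L M n u = x := ⟨_, ofTerms_toTerms L M n x⟩
  induction u using DirectSum.induction_on with
  | zero =>
    simp only [map_zero, DirectSum.zero_apply, smul_zero]
    rfl
  | of kl t =>
    rw [← DirectSum.lof_eq_of A, ofTerms_lof, pureLin_d, map_add, map_zsmul, map_zsmul, toTerms_pureLin,
      toTerms_pureLin, hM, ModuleCat.hom_zero, LinearMap.lTensor_zero, LinearMap.zero_apply, map_zero, smul_zero,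
      add_zero, toTerms_pureLin, DirectSum.smul_apply]
    by_cases hk : ij = kl
    · subst hk
      rw [DirectSum.lof_apply]
      exact congrArg _ (DirectSum.lof_apply A (antidiagSucc n ij) _)
    · rw [DirectSum.lof_eq_of A, DirectSum.lof_eq_of A]
      erw [DirectSum.of_eq_of_ne _ _ _ (fun h => hk (antidiagSucc_injective n h)),
        DirectSum.of_eq_of_ne _ _ _ hk]
      rw [map_zero]
      exact (smul_zero (_ : ℤ)).trans (smul_zero (_ : ℤ)).symm
  | add a b ha hb =>
    simp only [map_add, DirectSum.add_apply, ha, hb]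
    exact (smul_add _ _ _).symm

variable (hflat : ∀ j, Module.Flat A (M.X j))

include hM in
/-- Every element of `M` is a cycle. -/
theorem bijective_iCycles (j : ℤ) : Function.Bijective (M.iCycles j) :=
  ⟨iCycles_injective M j, fun y => exists_cycle M j y (by rw [hM]; rfl)⟩

include hM in
theorem bijective_homologyπ (j : ℤ) : Function.Bijective (M.homologyπ j) := by
  refine ⟨(injective_iff_map_eq_zero _).2 fun z hz => ?_, homologyπ_surjective M j⟩
  obtain ⟨x, hx⟩ := (homologyπ_eq_zero_iff M j z).1 hz
  rw [hM] at hx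
  exact (bijective_iCycles hM j).1 (hx.symm.trans (map_zero _).symm)

include hflat in
theorem exact_rTensor_cycles (i j : ℤ) :
    Function.Exact (LinearMap.rTensor (M.X j) (L.iCycles i).hom) (LinearMap.rTensor (M.X j) (L.d i (i + 1)).hom) := by
  haveI := hflat j
  refine Module.Flat.rTensor_exact _ fun x => ⟨fun hx => exists_cycle L i x hx, ?_⟩
  rintro ⟨z, rfl⟩
  exact d_cycle i z (i + 1)

include hM hflat in
/-- **Künneth for a complex with zero differential.** -/
theorem kunneth_bijective_of_d_eq_zero (n : ℤ) : Function.Bijective (kunneth L M n) := by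
  classical
  let c : ∀ ij : HTor.Antidiag n, TensorProduct A (L.cycles ij.1.1) (M.cycles ij.1.2) →ₗ[A]
      TensorProduct A (L.homology ij.1.1) (M.homology ij.1.2) := fun ij =>
    TensorProduct.map (L.homologyπ ij.1.1).hom (M.homologyπ ij.1.2).hom
  let Zsum := DirectSum (HTor.Antidiag n) fun ij => TensorProduct A (L.cycles ij.1.1) (M.cycles ij.1.2)
  let π : Zsum →ₗ[A] HTor.KunnethSum L M n := DirectSum.lmap c
  let ι : Zsum →ₗ[A] Terms L M n :=
    DirectSum.lmap fun ij => TensorProduct.map (L.iCycles ij.1.1).hom (M.iCycles ij.1.2).hom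
  -- the class of a sum of products of cycles
  have key : ∀ e : Zsum, ∃ w : (HTor.tensorCx L M).cycles n,
      (HTor.tensorCx L M).iCycles n w = ofTerms L M n (ι e) ∧
        kunneth L M n (π e) = (HTor.tensorCx L M).homologyπ n w := by
    intro e
    induction e using DirectSum.induction_on with
    | zero => exact ⟨0, by simp only [map_zero], by simp only [map_zero]⟩
    | of ij t =>
      rw [← DirectSum.lof_eq_of A, DirectSum.lmap_lof, ofTerms_lof, DirectSum.lmap_lof, kunneth_lof]
      obtain ⟨w, hw, e⟩ := exists_cycle_cycProd L M ij.1.1 ij.1.2 n ij.2 t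
      refine ⟨w, hw, ?_⟩
      rw [← e]
      clear hw e w
      induction t with
      | zero => simp only [map_zero]
      | tmul z z' => exact kunnethTerm_tmul L M ij.1.1 ij.1.2 n ij.2 z z'
      | add a b ha hb => simp only [map_add, ha, hb]
    | add a b ha hb =>
      obtain ⟨wa, ha, ha'⟩ := ha
      obtain ⟨wb, hb, hb'⟩ := hb
      exact ⟨wa + wb, by simp only [map_add, ha, hb], by simp only [map_add, ha', hb']⟩
  have hπ : Function.Surjective π := (DirectSum.lmap_surjective _).2 fun ij =>
    TensorProduct.map_surjective (homologyπ_surjective L _) (homologyπ_surjective M _)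
  -- identification of `Z ⊗ Z'` with `Z ⊗ M`
  have hmap : ∀ (ij : HTor.Antidiag n) (t : TensorProduct A (L.cycles ij.1.1) (M.X ij.1.2)),
      ∃ t', TensorProduct.map (L.iCycles ij.1.1).hom (M.iCycles ij.1.2).hom t' =
        LinearMap.rTensor (M.X ij.1.2) (L.iCycles ij.1.1).hom t := by
    intro ij t
    obtain ⟨t', rfl⟩ := LinearMap.lTensor_surjective (L.cycles ij.1.1) (g := (M.iCycles ij.1.2).hom)
      (bijective_iCycles hM ij.1.2).2 t
    refine ⟨t', ?_⟩
    rw [← LinearMap.rTensor_comp_lTensor]
    rfl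
  constructor
  · refine (injective_iff_map_eq_zero _).2 fun x hx => ?_
    obtain ⟨e, rfl⟩ := hπ x
    obtain ⟨w, hw, hw'⟩ := key e
    rw [hw'] at hx
    obtain ⟨u, hu⟩ := (homologyπ_eq_zero_iff _ n w).1 hx
    rw [hw] at hu
    obtain ⟨m, rfl⟩ : ∃ k, n = k + 1 := ⟨n - 1, by omega⟩
    have hu' : ∀ (a : ℤ) (u : (HTor.tensorCx L M).X a), a = m → (HTor.tensorCx L M).d a (m + 1) u =
        ofTerms L M (m + 1) (ι e) → π e = 0 := by
      rintro a u₀ rfl hu
      refine DFinsupp.ext fun ij => ?_
      obtain ⟨kl, rfl⟩ := antidiagSucc_surjective a ij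
      have h1 := congrArg (fun v => toTerms L M (a + 1) v (antidiagSucc a kl)) hu
      simp only [toTerms_d_apply hM, toTerms_ofTerms, ι, DirectSum.lmap_apply] at h1
      change DirectSum.lmap c e (antidiagSucc a kl) = 0
      rw [DirectSum.lmap_apply]
      let k := kl.1.1
      let l := kl.1.2
      replace h1 : (ComplexShape.ε₁ (ComplexShape.up ℤ) (ComplexShape.up ℤ) (ComplexShape.up ℤ) (k, l) : ℤ) •
          LinearMap.rTensor (M.X l) (L.d k (k + 1)).hom (toTerms L M a u₀ kl) =
            TensorProduct.map (L.iCycles (k + 1)).hom (M.iCycles l).hom (e (antidiagSucc a kl)) := h1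
      generalize e (antidiagSucc a kl) = s at h1 ⊢
      change TensorProduct A (L.cycles (k + 1)) (M.cycles l) at s
      change TensorProduct.map (L.homologyπ (k + 1)).hom (M.homologyπ l).hom s = 0
      -- descend along `toCycles`
      let v : TensorProduct A (L.X k) (M.X l) :=
        (ComplexShape.ε₁ (ComplexShape.up ℤ) (ComplexShape.up ℤ) (ComplexShape.up ℤ) (k, l) : ℤ) •
          toTerms L M a u₀ kl
      have h2 : LinearMap.rTensor (M.X l) (L.iCycles (k + 1)).hom
          (LinearMap.rTensor (M.X l) (L.toCycles k (k + 1)).hom v) =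
          TensorProduct.map (L.iCycles (k + 1)).hom (M.iCycles l).hom s := by
        rw [← LinearMap.rTensor_comp_apply, ← ModuleCat.hom_comp, L.toCycles_i, map_zsmul]
        exact h1
      have h3 : LinearMap.lTensor (L.cycles (k + 1)) (M.iCycles l).hom s =
          LinearMap.rTensor (M.X l) (L.toCycles k (k + 1)).hom v := by
        haveI := hflat l
        apply Module.Flat.rTensor_preserves_injective_linearMap (M := M.X l) (L.iCycles (k + 1)).hom
          (iCycles_injective L (k + 1))
        rw [h2, ← LinearMap.comp_apply, LinearMap.rTensor_comp_lTensor]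
      obtain ⟨v', hv'⟩ := LinearMap.lTensor_surjective (L.X k) (g := (M.iCycles l).hom) (bijective_iCycles hM l).2 v
      have h4 : s = LinearMap.rTensor (M.cycles l) (L.toCycles k (k + 1)).hom v' := by
        have hinj : Function.Injective (LinearMap.lTensor (L.cycles (k + 1)) (M.iCycles l).hom) :=
          (LinearEquiv.lTensor (L.cycles (k + 1)) (LinearEquiv.ofBijective (M.iCycles l).hom
            (bijective_iCycles hM l))).injective
        apply hinj
        rw [h3, ← hv', ← LinearMap.comp_apply, ← LinearMap.comp_apply, LinearMap.rTensor_comp_lTensor,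
          LinearMap.lTensor_comp_rTensor]
      rw [h4, ← LinearMap.comp_apply, LinearMap.map_comp_rTensor, ← ModuleCat.hom_comp,
        L.toCycles_comp_homologyπ, ModuleCat.hom_zero, TensorProduct.map_zero_left, LinearMap.zero_apply]
    exact hu' _ u (by omega) hu
  · intro y
    obtain ⟨w, rfl⟩ := homologyπ_surjective _ n y
    let x := (HTor.tensorCx L M).iCycles n w
    have hd : ∀ ij : HTor.Antidiag n,
        LinearMap.rTensor (M.X ij.1.2) (L.d ij.1.1 (ij.1.1 + 1)).hom (toTerms L M n x ij) = 0 := by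
      intro ij
      have h1 := toTerms_d_apply hM n x ij
      rw [d_cycle, map_zero, DirectSum.zero_apply] at h1
      rw [← smul_smul_sign (ComplexShape.ε₁ (ComplexShape.up ℤ) (ComplexShape.up ℤ) (ComplexShape.up ℤ)
        (ij.1.1, ij.1.2)) (LinearMap.rTensor (M.X ij.1.2) (L.d ij.1.1 (ij.1.1 + 1)).hom (toTerms L M n x ij)),
        ← h1]
      exact smul_zero (_ : ℤ)
    have hcomp : ∀ ij : HTor.Antidiag n, ∃ t, TensorProduct.map (L.iCycles ij.1.1).hom (M.iCycles ij.1.2).hom t =
        toTerms L M n x ij := fun ij => by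
      obtain ⟨t, ht⟩ := (exact_rTensor_cycles hflat ij.1.1 ij.1.2 _).1 (hd ij)
      obtain ⟨t', ht'⟩ := hmap ij t
      exact ⟨t', ht'.trans ht⟩
    obtain ⟨e, he⟩ : ∃ e : Zsum, ι e = toTerms L M n x := by
      suffices ∀ u : Terms L M n, (∀ ij, ∃ t, TensorProduct.map (L.iCycles ij.1.1).hom (M.iCycles ij.1.2).hom t =
          u ij) → ∃ e : Zsum, ι e = u from this _ hcomp
      intro u hu
      choose t ht using hu
      refine ⟨∑ ij ∈ DFinsupp.support u, DirectSum.lof A (HTor.Antidiag n)
        (fun ij => TensorProduct A (L.cycles ij.1.1) (M.cycles ij.1.2)) ij (t ij), ?_⟩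
      rw [map_sum]
      conv_rhs => rw [← DirectSum.sum_support_of u]
      refine Finset.sum_congr rfl fun ij _ => ?_
      rw [DirectSum.lmap_lof, ht, DirectSum.lof_eq_of]
    obtain ⟨w', hw', h'⟩ := key e
    refine ⟨π e, h'.trans (congrArg _ (iCycles_injective _ n ?_))⟩
    rw [hw', he, ofTerms_toTerms]

end GrothLib.HTor22
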